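import Cfsg.Agent.RankOneBN.Nil.TwoGroup

/-!
An involution fixing two cosets: its fixed cosets are the base and one orbit of the central
involutions, and the number of cosets is `q ^ 3 + 1` where `q - 1` is the number of central
involutions.
-/

set_option autoImplicit false
set_option linter.style.haveILetI false

namespace CfsgLib.RankOneBN.Nil

open Cfsg CfsgLib.StronglyEmbedded

universe v

variable {G : Type v} [Group G] [Finite G] {B U : Subgroup G}

/-- The subgroup of central elements of `U` of order at most 2. -/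
def omegaZ (U : Subgroup G) : Subgroup G where
  carrier := {x | x * x = 1 ∧ x ∈ U ∧ ∀ u ∈ U, Commute u x}
  one_mem' := ⟨one_mul 1, one_mem U, fun u _ => Commute.one_right u⟩
  mul_mem' := fun {x y} hx hy =>
    ⟨by rw [(hy.2.2 x hx.2.1).symm.mul_mul_mul_comm, hx.1, hy.1, one_mul], mul_mem hx.2.1 hy.2.1,
      fun u hu => (hx.2.2 u hu).mul_right (hy.2.2 u hu)⟩
  inv_mem' := fun {x} hx => ⟨by rw [← mul_inv_rev, hx.1, inv_one], inv_mem hx.2.1,
    fun u hu => (hx.2.2 u hu).inv_right⟩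

theorem isE_iff {x : G} : IsE U x ↔ x ∈ omegaZ U ∧ x ≠ 1 :=
  ⟨fun hx => ⟨⟨mul_self_eq_one hx.1, hx.2.1, hx.2.2⟩, ne_one_of_orderOf_two hx.1⟩,
    fun hx => ⟨orderOf_two_iff.mpr ⟨hx.1.1, hx.2⟩, hx.1.2.1, hx.1.2.2⟩⟩

theorem card_omegaZ : Nat.card (omegaZ U) = Nat.card {e : G // IsE U e} + 1 := by
  classical
  haveI := Fintype.ofFinite (omegaZ U)
  haveI := Fintype.ofFinite {e : G // IsE U e}
  rw [← Nat.card_congr (Equiv.sumCompl (fun x : omegaZ U => x ≠ 1)), Nat.card_sum]
  congr 1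
  · exact Nat.card_congr
      { toFun := fun x => ⟨x.1.1, isE_iff.mpr ⟨x.1.2, fun e => x.2 (Subtype.ext e)⟩⟩
        invFun := fun e => ⟨⟨e.1, (isE_iff.mp e.2).1⟩, fun e1 => (isE_iff.mp e.2).2 (congrArg Subtype.val e1)⟩
        left_inv := fun _ => rfl
        right_inv := fun _ => rfl }
  · rw [Nat.card_eq_one_iff_exists]
    exact ⟨⟨1, by simp⟩, fun x => Subtype.ext (not_not.mp x.2)⟩

/-- An involution of `B` fixing a coset other than the base. -/
def IsBad (B : Subgroup G) (u : G) : Prop :=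
  orderOf u = 2 ∧ u ∈ B ∧ ∃ c : G ⧸ B, c ≠ ((1 : G) : G ⧸ B) ∧ u • c = c

variable (h : NilSplit B U)

include h

theorem IsBad.not_isMem {u : G} (hu : IsBad B u) : ¬ IsMem U u := fun hm => by
  obtain ⟨-, huB, c, hc, huc⟩ := hu
  exact hc (centre_unique h hm huc (smul_base_iff.mpr huB))

theorem pow_two_eq {x : G} (hx : orderOf x = 2) : x ^ 2 ^ 1 = 1 := by
  rw [pow_one, ← hx, pow_orderOf_eq_one]

theorem commute_iff_fix {u z : G} (hu : orderOf u = 2) (hz : IsMem U z) {c : G ⧸ B}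
    (hc : z • c = c) : Commute u z ↔ u • c = c :=
  ⟨fun hcom => fix_centre_of_commute h hz hcom hc,
    fun huc => commute_of_two h hz hc huc (pow_two_eq h hu)⟩

theorem card_members_at (c : G ⧸ B) :
    Nat.card {z : G // IsMem U z ∧ z • c = c} = Nat.card {e : G // IsE U e} := by
  induction c using QuotientGroup.induction_on with
  | H g =>
  exact Nat.card_congr
    { toFun := fun z => ⟨g⁻¹ * z.1 * g, isE_conj_of_fix h z.2.1 z.2.2⟩
      invFun := fun e => ⟨g * e.1 * g⁻¹, e.2.isMem.conj g, smul_mk_eq_iff.mpr (by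
        rw [show g⁻¹ * (g * e.1 * g⁻¹) * g = e.1 by group]; exact h.le e.2.2.1)⟩
      left_inv := fun z => Subtype.ext (by simp [mul_assoc])
      right_inv := fun e => Subtype.ext (by simp [mul_assoc]) }

theorem card_members_commute {u : G} (hu : orderOf u = 2) :
    Nat.card {z : G // IsMem U z ∧ Commute u z} =
      Nat.card (MulAction.fixedBy (G ⧸ B) u) * Nat.card {e : G // IsE U e} := by
  classical
  haveI := Fintype.ofFinite (MulAction.fixedBy (G ⧸ B) u)
  have e : (Σ c : MulAction.fixedBy (G ⧸ B) u, {z : G // IsMem U z ∧ z • c.1 = c.1}) ≃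
      {z : G // IsMem U z ∧ Commute u z} := Equiv.ofBijective
    (fun s => ⟨s.2.1, s.2.2.1, (commute_iff_fix h hu s.2.2.1 s.2.2.2).mpr s.1.2⟩)
    ⟨fun ⟨c, z⟩ ⟨c', z'⟩ e => by
      have e1 : z.1 = z'.1 := congrArg Subtype.val e
      obtain rfl : c = c' := Subtype.ext (centre_unique h z.2.1 z.2.2 (e1 ▸ z'.2.2))
      exact Sigma.ext rfl (heq_of_eq (Subtype.ext e1)),
    fun z => by
      obtain ⟨c, hc⟩ := exists_centre h z.2.1
      exact ⟨⟨⟨c, (commute_iff_fix h hu z.2.1 hc).mp z.2.2⟩, ⟨z.1, z.2.1, hc⟩⟩, rfl⟩⟩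
  rw [← Nat.card_congr e, Nat.card_sigma, Finset.sum_congr rfl fun c _ => card_members_at h c.1,
    Finset.sum_const, Finset.card_univ, smul_eq_mul, ← Nat.card_eq_fintype_card]

omit h [Finite G] in
theorem commute_zpowers {u e f x : G} (he : Commute u e) (hf : Commute u f)
    (hx : x ∈ Subgroup.zpowers (e * f)) : Commute u x := by
  obtain ⟨i, rfl⟩ := Subgroup.mem_zpowers_iff.mp hx
  exact (he.mul_right hf).zpow_right i

/-- The members commuting with a bad involution are conjugate in its centralizer. -/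
theorem exists_conj_commute {u : G} (hu : IsBad B u) {e f : G} (he : IsMem U e) (hue : Commute u e)
    (hf : IsMem U f) (huf : Commute u f) : ∃ x, Commute u x ∧ x * e * x⁻¹ = f := by
  obtain ⟨c, hc⟩ := exists_centre h he
  obtain ⟨d, hd⟩ := exists_centre h hf
  have hdiff : ∀ {e f : G} {c d : G ⧸ B}, IsMem U e → Commute u e → IsMem U f → Commute u f →
      e • c = c → f • d = d → c ≠ d → ∃ x, Commute u x ∧ x * e * x⁻¹ = f := by
    intro e f c d he hue hf huf hc hd hne
    obtain ⟨x, hx, hxe⟩ := exists_conj_member h he hf hc hd hne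
    exact ⟨x, commute_zpowers hue huf hx, hxe⟩
  rcases ne_or_eq c d with hne | rfl
  · exact hdiff he hue hf huf hc hd hne
  · obtain ⟨c', hc', huc'⟩ : ∃ c', c' ≠ c ∧ u • c' = c' := by
      obtain ⟨hu2, huB, c₁, hc₁, huc₁⟩ := hu
      rcases eq_or_ne c₁ c with rfl | hne
      · exact ⟨_, hc₁.symm, smul_base_iff.mpr huB⟩
      · exact ⟨c₁, hne, huc₁⟩
    obtain ⟨w, hw, hwc⟩ := exists_member_at h c'
    have huw := (commute_iff_fix h hu.1 hw hwc).mpr huc'
    obtain ⟨x, hux, hx⟩ := hdiff he hue hw huw hc hwc hc'.symm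
    obtain ⟨y, huy, hy⟩ := hdiff hw huw hf huf hwc hd hc'
    exact ⟨y * x, huy.mul_right hux, by
      rw [show y * x * e * (y * x)⁻¹ = y * (x * e * x⁻¹) * y⁻¹ by group, hx, hy]⟩

omit h in
theorem card_fixedBy_conj (x v : G) :
    Nat.card (MulAction.fixedBy (G ⧸ B) (x * v * x⁻¹)) =
      Nat.card (MulAction.fixedBy (G ⧸ B) v) :=
  Nat.card_congr
    { toFun := fun c => ⟨x⁻¹ • c.1, by
        have := c.2
        simp only [MulAction.mem_fixedBy, mul_smul] at this ⊢
        exact eq_inv_smul_iff.mpr this⟩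
      invFun := fun c => ⟨x • c.1, by
        have := c.2
        simp only [MulAction.mem_fixedBy, mul_smul, inv_smul_smul] at this ⊢
        rw [this]⟩
      left_inv := fun c => Subtype.ext (by simp)
      right_inv := fun c => Subtype.ext (by simp) }

/-- The involution attached to a coset not fixed by a bad involution. -/
theorem exists_partner {u : G} (hu : IsBad B u) {c : G ⧸ B} (hc : u • c ≠ c) :
    ∃ e, IsMem U e ∧ Commute u e ∧ (u * e) • c = c := by
  obtain ⟨z, hz, hzc⟩ := exists_member_at h c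
  have hu2 := hu.1
  have hz2 := hz.orderOf_eq
  have heven : ¬ Odd (orderOf (z * u)) := fun hodd => by
    obtain ⟨x, -, hx⟩ := exists_zpowers_conj_of_odd hz2 hu2 hodd
    exact hu.not_isMem h (hx ▸ hz.conj x)
  obtain ⟨m, hm⟩ := Nat.not_odd_iff_even.mp heven
  have hpos := orderOf_pos (z * u)
  set r := z * u with hrdef
  set v := r ^ m with hvdef
  have hv : orderOf v = 2 := by
    rw [hvdef, orderOf_pow' _ (by omega), hm, Nat.gcd_eq_right (dvd_add dvd_rfl dvd_rfl),
      ← two_mul, Nat.mul_div_cancel _ (by omega)]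
  have hzr : z * r * z⁻¹ = r⁻¹ := by
    rw [hrdef, mul_inv_rev, inv_eq_self hz2, inv_eq_self hu2, ← mul_assoc z z u,
      mul_self_eq_one hz2, one_mul]
  have hur : u * r * u⁻¹ = r⁻¹ := by
    rw [hrdef, mul_inv_rev, inv_eq_self hz2, inv_eq_self hu2, mul_assoc, mul_assoc z u u,
      mul_self_eq_one hu2, mul_one]
  have hzv : Commute z v := commute_iff_conj_eq.mpr (by
    rw [hvdef, ← conj_pow, hzr, inv_pow]; exact inv_eq_self hv)
  have huv : Commute u v := commute_iff_conj_eq.mpr (by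
    rw [hvdef, ← conj_pow, hur, inv_pow]; exact inv_eq_self hv)
  obtain ⟨i, rfl | rfl⟩ := Nat.even_or_odd' m
  · exfalso
    have e1 : z * r ^ i * z⁻¹ = (r ^ i)⁻¹ := by rw [← conj_pow, hzr, inv_pow]
    have e2 : (r ^ i)⁻¹ * z * ((r ^ i)⁻¹)⁻¹ = z * v := by
      rw [inv_inv, ← e1, show z * r ^ i * z⁻¹ * z * r ^ i = z * (r ^ i * r ^ i) by group, hvdef,
        two_mul, pow_add]
    have hmem : IsMem U (z * v) := e2 ▸ hz.conj _
    have hzvc : (z * v) • c = c :=
      fix_centre_of_commute h hz ((Commute.refl z).mul_right hzv).symm hzc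
    induction c using QuotientGroup.induction_on with
    | H g =>
    have e := isE_conj_of_fix h hz hzc
    have e' := isE_conj_of_fix h hmem hzvc
    have hv' : g⁻¹ * v * g = (g⁻¹ * z * g) * (g⁻¹ * (z * v) * g) := by
      rw [show (g⁻¹ * z * g) * (g⁻¹ * (z * v) * g) = g⁻¹ * ((z * z) * v) * g by group,
        mul_self_eq_one hz2, one_mul]
    have hvm : IsMem U v := ⟨g, by rw [orderOf_conj_inv, hv], hv' ▸ mul_mem e.2.1 e'.2.1,
      fun w hw => hv' ▸ (e.2.2 w hw).mul_right (e'.2.2 w hw)⟩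
    exact hc (fix_centre_of_commute h hvm huv (smul_mk_eq_iff.mpr (h.le (hv' ▸ mul_mem e.2.1 e'.2.1))))
  · have e1 : u * z * u * r ^ i * (u * z * u)⁻¹ = (r ^ i)⁻¹ := by
      rw [← conj_pow, ← inv_pow]
      congr 1
      rw [hrdef, mul_inv_rev, mul_inv_rev, mul_inv_rev, inv_eq_self hz2, inv_eq_self hu2,
        show u * z * u * (z * u) * (u * (z * u)) = u * z * u * z * (u * u) * z * u by group,
        mul_self_eq_one hu2, mul_one,
        show u * z * u * z * z * u = u * z * u * (z * z) * u by group, mul_self_eq_one hz2, mul_one,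
        show u * z * u * u = u * z * (u * u) by group, mul_self_eq_one hu2, mul_one]
    have e2 : (r ^ i)⁻¹ * (u * z * u) * ((r ^ i)⁻¹)⁻¹ = u * v := by
      rw [inv_inv, ← e1,
        show u * z * u * r ^ i * (u * z * u)⁻¹ * (u * z * u) * r ^ i =
          u * ((z * u) * (r ^ i * r ^ i)) by group, hvdef, pow_succ', two_mul, pow_add]
    have hm2 : IsMem U (u * z * u) := by simpa [inv_eq_self hu2] using hz.conj u
    refine ⟨u * v, e2 ▸ hm2.conj _, (Commute.refl u).mul_right huv, ?_⟩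
    rw [← mul_assoc, mul_self_eq_one hu2, one_mul]
    exact fix_centre_of_commute h hz hzv.symm hzc

/-- The involution attached to a coset is unique. -/
theorem partner_unique {u : G} (hu : IsBad B u) {c : G ⧸ B} (hc : u • c ≠ c) {e e' : G}
    (he : IsMem U e) (hue : Commute u e) (hec : (u * e) • c = c)
    (he' : IsMem U e') (hue' : Commute u e') (hec' : (u * e') • c = c) : e = e' := by
  obtain ⟨z, hz, hzc⟩ := exists_member_at h c
  have hpow : ∀ {f : G}, IsMem U f → Commute u f → (u * f) ^ 2 ^ 1 = 1 := fun hf hcom => by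
    rw [pow_one, hcom.mul_pow, sq, sq, mul_self_eq_one hu.1, mul_self_eq_one hf.orderOf_eq, one_mul]
  have h1 := commute_of_two h hz hzc hec (hpow he hue)
  have h2 := commute_of_two h hz hzc hec' (hpow he' hue')
  have hy : Commute z (e * e') := by
    have e3 : u * e * (u * e') = e * e' := by
      rw [hue.eq, show e * u * (u * e') = e * ((u * u) * e') by group, mul_self_eq_one hu.1, one_mul]
    exact e3 ▸ (h1.symm.mul_right h2.symm)
  obtain ⟨d, hd⟩ := exists_centre h he
  obtain ⟨d', hd'⟩ := exists_centre h he'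
  have hud : u • d = d := fix_centre_of_commute h he hue hd
  have hcd : c ≠ d := fun e1 => hc (e1 ▸ hud)
  by_contra hne
  rcases eq_or_ne d d' with rfl | hdd
  · -- `e * e'` is a member centred at `d`
    induction d using QuotientGroup.induction_on with
    | H g =>
    have i1 := isE_conj_of_fix h he hd
    have i2 := isE_conj_of_fix h he' hd'
    have hym : IsMem U (e * e') := by
      refine ⟨g, ?_⟩
      rw [show g⁻¹ * (e * e') * g = (g⁻¹ * e * g) * (g⁻¹ * e' * g) by group]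
      refine isE_iff.mpr ⟨mul_mem (isE_iff.mp i1).1 (isE_iff.mp i2).1, fun e1 => hne ?_⟩
      have e2 : e * e' = 1 := by
        rw [show g⁻¹ * e * g * (g⁻¹ * e' * g) = g⁻¹ * (e * e') * g by group] at e1
        have := congrArg (fun x => g * x * g⁻¹) e1
        simpa [mul_assoc] using this
      rw [← inv_eq_self he'.orderOf_eq]
      exact eq_inv_of_mul_eq_one_left e2
    have hyd : (e * e') • (g : G ⧸ B) = g := by rw [mul_smul, hd', hd]
    exact hcd ((centre_unique h hz hzc (fix_centre_of_commute h hym hy hyd)))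
  · have hoy := odd_mul h he he' hd hd' hdd
    have hinv : e * (e * e') * e⁻¹ = (e * e')⁻¹ := by
      rw [mul_inv_rev, inv_eq_self he.orderOf_eq, inv_eq_self he'.orderOf_eq, ← mul_assoc e e e',
        mul_self_eq_one he.orderOf_eq, one_mul]
    have h2' := sq_eq_one_of_commute_of_inverted hz.orderOf_eq he.orderOf_eq
      (odd_mul h hz he hzc hd hcd) hy hinv
    refine hne ?_
    rw [← inv_eq_self he'.orderOf_eq]
    refine eq_inv_of_mul_eq_one_left (orderOf_eq_one_iff.mp ?_)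
    have h3 : orderOf (e * e') ∣ 2 := orderOf_dvd_of_pow_eq_one (by rw [sq]; exact h2')
    rcases (Nat.dvd_prime Nat.prime_two).mp h3 with h4 | h4
    · exact h4
    · exact absurd hoy (by rw [h4]; decide)

/-- The basic counting equation. -/
theorem count_eq {u e₀ : G} (hu : IsBad B u) (he₀ : IsMem U e₀) (hue₀ : Commute u e₀) :
    B.index = Nat.card (MulAction.fixedBy (G ⧸ B) u) +
      Nat.card (MulAction.fixedBy (G ⧸ B) u) * Nat.card {e : G // IsE U e} *
        (Nat.card (MulAction.fixedBy (G ⧸ B) (u * e₀)) - 1) := by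
  classical
  set S := {z : G // IsMem U z ∧ Commute u z}
  haveI := Fintype.ofFinite S
  have hcard : ∀ s : S, Nat.card {c : G ⧸ B // (u * s.1) • c = c ∧ u • c ≠ c} =
      Nat.card (MulAction.fixedBy (G ⧸ B) (u * e₀)) - 1 := by
    intro s
    obtain ⟨d, hd⟩ := exists_centre h s.2.1
    have hud := fix_centre_of_commute h s.2.1 s.2.2 hd
    have hud' : (u * s.1) • d = d := by rw [mul_smul, hd, hud]
    obtain ⟨x, hux, hx⟩ := exists_conj_commute h hu he₀ hue₀ s.2.1 s.2.2
    have e1 : u * s.1 = x * (u * e₀) * x⁻¹ := by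
      rw [← hx, show x * (u * e₀) * x⁻¹ = (x * u * x⁻¹) * (x * e₀ * x⁻¹) by group, ← hux.eq,
        mul_inv_cancel_right]
    have hset : {c : G ⧸ B | (u * s.1) • c = c ∧ u • c ≠ c} =
        (MulAction.fixedBy (G ⧸ B) (u * s.1)) \ {d} := by
      ext c
      simp only [Set.mem_setOf_eq, Set.mem_diff, MulAction.mem_fixedBy, Set.mem_singleton_iff]
      refine and_congr_right fun hc => ⟨fun hne e1 => hne (e1 ▸ hud), fun hne huc => hne ?_⟩
      refine centre_unique h s.2.1 ?_ hd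
      have h3 : s.1 • c = (u * (u * s.1)) • c := by
        rw [← mul_assoc, mul_self_eq_one hu.1, one_mul]
      rw [h3, mul_smul, hc, huc]
    rw [← Set.coe_ofPred, Nat.card_coe_set_eq, hset,
      Set.ncard_sdiff_singleton_of_mem (show d ∈ MulAction.fixedBy (G ⧸ B) (u * s.1) from hud'),
      ← Nat.card_coe_set_eq, e1, card_fixedBy_conj]
  have e : (Σ s : S, {c : G ⧸ B // (u * s.1) • c = c ∧ u • c ≠ c}) ≃ {c : G ⧸ B // ¬ u • c = c} :=
    Equiv.ofBijective (fun s => ⟨s.2.1, s.2.2.2⟩)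
      ⟨fun ⟨s, c⟩ ⟨s', c'⟩ e => by
        have e1 : c.1 = c'.1 := congrArg Subtype.val e
        obtain rfl : s = s' := Subtype.ext
          (partner_unique h hu c.2.2 s.2.1 s.2.2 c.2.1 s'.2.1 s'.2.2 (e1 ▸ c'.2.1))
        exact Sigma.ext rfl (heq_of_eq (Subtype.ext e1)),
      fun c => by
        obtain ⟨z, hz, huz, hzc⟩ := exists_partner h hu c.2
        exact ⟨⟨⟨z, hz, huz⟩, ⟨c.1, hzc, c.2⟩⟩, rfl⟩⟩
  have h2 : Nat.card {c : G ⧸ B // ¬ u • c = c} =
      Nat.card S * (Nat.card (MulAction.fixedBy (G ⧸ B) (u * e₀)) - 1) := by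
    rw [← Nat.card_congr e, Nat.card_sigma, Finset.sum_congr rfl fun s _ => hcard s,
      Finset.sum_const, Finset.card_univ, smul_eq_mul, ← Nat.card_eq_fintype_card]
  have h3 : Nat.card {c : G ⧸ B // u • c = c} + Nat.card {c : G ⧸ B // ¬ u • c = c} = B.index := by
    rw [← Nat.card_sum]
    exact Nat.card_congr (Equiv.sumCompl _)
  rw [card_members_commute h hu.1] at h2
  rw [← h3, h2]
  rfl

theorem isBad_mul {u e : G} (hu : IsBad B u) (he : IsE U e) :
    IsBad B (u * e) := by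
  have hue : Commute u e := he.2.2 u (involution_mem h hu.2.1 hu.1)
  have hB : u * e ∈ B := mul_mem hu.2.1 (h.le he.2.1)
  refine ⟨orderOf_two_iff.mpr ⟨?_, fun e1 => hu.not_isMem h ?_⟩, hB, ?_⟩
  · rw [hue.symm.mul_mul_mul_comm, mul_self_eq_one hu.1, mul_self_eq_one he.1, one_mul]
  · rw [eq_inv_of_mul_eq_one_left e1, inv_eq_self he.1]
    exact he.isMem
  · obtain ⟨hu2, huB, c₀, hc₀, huc₀⟩ := hu
    by_contra hall
    push_neg at hall
    have hfix : ∀ c : G ⧸ B, u • c = c := by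
      have hone : Nat.card (MulAction.fixedBy (G ⧸ B) (u * e)) = 1 := by
        rw [Nat.card_eq_one_iff_exists]
        exact ⟨⟨_, smul_base_iff.mpr hB⟩, fun c => Subtype.ext (by_contra fun hne => hall c.1 hne c.2)⟩
      have hc := count_eq h ⟨hu2, huB, c₀, hc₀, huc₀⟩ he.isMem hue
      rw [hone] at hc
      intro c
      have heq : MulAction.fixedBy (G ⧸ B) u = Set.univ :=
        Set.eq_of_subset_of_ncard_le (Set.subset_univ _) (by
          rw [Set.ncard_univ, ← Nat.card_coe_set_eq]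
          exact le_of_eq (by show Nat.card (G ⧸ B) = _; rw [← Subgroup.index, hc]; simp))
      exact (heq ▸ Set.mem_univ c : c ∈ MulAction.fixedBy (G ⧸ B) u)
    refine ne_one_of_orderOf_two hu2 (Subgroup.mem_bot.mp (h.core ▸ ?_))
    show ∀ g : G, g * u * g⁻¹ ∈ B
    intro g
    simpa using smul_mk_eq_iff.mp (hfix ((g⁻¹ : G) : G ⧸ B))

omit h [Finite G] in
theorem arith {n f f' k a i : ℕ} (hk : 2 ≤ k) (hf : 2 ≤ f) (hf' : 2 ≤ f')
    (h1 : n = f + f * k * (f' - 1)) (h2 : n = f' + f' * k * (f - 1))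
    (ha : n - 1 = 2 ^ a) (hk1 : k + 1 = 2 ^ i) (hdvd : k + 1 ∣ f - 1) :
    f = k + 2 ∧ n = (k + 1) ^ 3 + 1 := by
  have hff : f = f' := by
    obtain ⟨x, rfl⟩ := Nat.exists_eq_add_of_le hf
    obtain ⟨y, rfl⟩ := Nat.exists_eq_add_of_le hf'
    rw [show 2 + y - 1 = y + 1 by omega] at h1
    rw [show 2 + x - 1 = x + 1 by omega] at h2
    rcases Nat.lt_trichotomy x y with hlt | rfl | hlt
    · nlinarith
    · rfl
    · nlinarith
  subst hff
  obtain ⟨m, hm⟩ := hdvd
  have hf1 : f = (k + 1) * m + 1 := by omega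
  subst hf1
  rw [Nat.add_sub_cancel] at h1
  have key : n - 1 = (k + 1) * m * ((k + 1) * (k * m + 1)) := by
    apply Nat.sub_eq_of_eq_add
    rw [h1]
    ring
  have hd : ∀ x, x ∣ n - 1 → ∃ j, x = 2 ^ j := fun x hx => by
    obtain ⟨j, -, hj⟩ := (Nat.dvd_prime_pow Nat.prime_two).mp (ha ▸ hx)
    exact ⟨j, hj⟩
  obtain ⟨j, hj⟩ := hd m (key ▸ dvd_mul_of_dvd_left (dvd_mul_left m (k + 1)) _)
  obtain ⟨l, hl⟩ := hd (k * m + 1) (key ▸ dvd_mul_of_dvd_right (dvd_mul_left _ (k + 1)) _)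
  rcases j with _ | j
  · rw [pow_zero] at hj
    subst hj
    refine ⟨by ring, ?_⟩
    rw [h1]; ring
  · exfalso
    rcases l with _ | l
    · have : k * m = 0 := by simpa using hl
      rcases Nat.mul_eq_zero.mp this with h3 | h3
      · omega
      · rw [hj] at h3; exact absurd h3 (pow_ne_zero _ two_ne_zero)
    · rw [hj, pow_succ, pow_succ] at hl
      have : 2 ∣ k * (2 ^ j * 2) := dvd_mul_of_dvd_right (dvd_mul_left 2 _) _
      omega

/-- The fixed cosets of a bad involution and the number of cosets. -/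
theorem fix_structure (hU2 : IsPGroup 2 U) (htwo : HasTwo U) {u : G} (hu : IsBad B u) :
    B.index = Nat.card (omegaZ U) ^ 3 + 1 ∧
      ∀ c d : G ⧸ B, c ≠ ((1 : G) : G ⧸ B) → d ≠ ((1 : G) : G ⧸ B) → u • c = c → u • d = d →
        ∃ e ∈ omegaZ U, e • c = d := by
  classical
  haveI : Fact (Nat.Prime 2) := ⟨Nat.prime_two⟩
  obtain ⟨e, e', he, he', hne⟩ := htwo
  set k := Nat.card {e : G // IsE U e} with hk
  have hk2 : 2 ≤ k := by
    haveI : Nontrivial {e : G // IsE U e} := ⟨⟨e, he⟩, ⟨e', he'⟩, fun e1 => hne (congrArg Subtype.val e1)⟩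
    exact Finite.one_lt_card
  have huU : u ∈ U := involution_mem h hu.2.1 hu.1
  have hu' := isBad_mul h hu he
  have huu' : u * e * e = u := by rw [mul_assoc, mul_self_eq_one he.1, mul_one]
  have h1 := count_eq h hu he.isMem (he.2.2 u huU)
  have h2 := count_eq h hu' he.isMem ((he.2.2 u huU).mul_left (Commute.refl e))
  rw [huu'] at h2
  have hge : ∀ {v : G}, IsBad B v → 2 ≤ Nat.card (MulAction.fixedBy (G ⧸ B) v) := fun {v} hv => by
    obtain ⟨-, hvB, c, hc, hvc⟩ := hv
    haveI : Nontrivial (MulAction.fixedBy (G ⧸ B) v) :=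
      ⟨⟨c, hvc⟩, ⟨_, smul_base_iff.mpr hvB⟩, fun e1 => hc (congrArg Subtype.val e1)⟩
    exact Finite.one_lt_card
  obtain ⟨c₀, hc₀⟩ : ∃ c : G ⧸ B, c ≠ ((1 : G) : G ⧸ B) ∧ u • c = c := hu.2.2
  obtain ⟨a₁, ha₁⟩ := IsPGroup.iff_card.mp hU2
  obtain ⟨a, -, ha⟩ := (Nat.dvd_prime_pow Nat.prime_two).mp
    (ha₁ ▸ (Dvd.intro _ (index_sub_one h hc₀.1).symm : B.index - 1 ∣ Nat.card U))
  obtain ⟨i, hi⟩ := IsPGroup.iff_card.mp (hU2.to_le (fun x hx => hx.2.1 : omegaZ U ≤ U))
  rw [card_omegaZ] at hi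
  -- `omegaZ U` acts semiregularly on the other fixed cosets
  have hinj : ∀ c : G ⧸ B, c ≠ ((1 : G) : G ⧸ B) → ∀ x ∈ omegaZ U, x • c = c → x = 1 := by
    intro c hc x hx hxc
    by_contra hx1
    exact hc (centre_unique h (isE_iff.mpr ⟨hx, hx1⟩).isMem hxc (smul_base_iff.mpr (h.le hx.2.1)))
  have hmap : ∀ c : G ⧸ B, c ≠ ((1 : G) : G ⧸ B) → u • c = c → ∀ x ∈ omegaZ U,
      x • c ≠ ((1 : G) : G ⧸ B) ∧ u • (x • c) = x • c := by
    intro c hc huc x hx
    refine ⟨fun e1 => hc (smul_left_cancel x (e1.trans (smul_base_iff.mpr (h.le hx.2.1)).symm)), ?_⟩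
    rw [smul_smul, (hx.2.2 u huU).eq, ← smul_smul, huc]
  set F := MulAction.fixedBy (G ⧸ B) u \ {((1 : G) : G ⧸ B)} with hF
  have hFcard : F.ncard = Nat.card (MulAction.fixedBy (G ⧸ B) u) - 1 := by
    rw [hF, Set.ncard_sdiff_singleton_of_mem
      (show ((1 : G) : G ⧸ B) ∈ MulAction.fixedBy (G ⧸ B) u from smul_base_iff.mpr hu.2.1),
      Nat.card_coe_set_eq]
  have hdvd : k + 1 ∣ Nat.card (MulAction.fixedBy (G ⧸ B) u) - 1 := by
    rw [← hFcard, hk, ← card_omegaZ, ← Nat.card_coe_set_eq]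
    letI : MulAction (omegaZ U) F :=
      { smul := fun x c => ⟨(x : G) • c.1, (hmap c.1 c.2.2 c.2.1 x x.2).2,
          (hmap c.1 c.2.2 c.2.1 x x.2).1⟩
        one_smul := fun c => Subtype.ext (one_smul G c.1)
        mul_smul := fun x y c => Subtype.ext (mul_smul (x : G) y c.1) }
    haveI : ∀ c : F, Subsingleton (MulAction.stabilizer (omegaZ U) c) := fun c =>
      ⟨fun x y => by
        have hone : ∀ z : MulAction.stabilizer (omegaZ U) c, z = 1 := fun z =>
          Subtype.ext (Subtype.ext (hinj c.1 c.2.2 _ z.1.2 (congrArg Subtype.val z.2)))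
        rw [hone x, hone y]⟩
    haveI := Fintype.ofFinite (Quotient (MulAction.orbitRel (omegaZ U) F))
    rw [Nat.card_congr (MulAction.selfEquivSigmaOrbits' (omegaZ U) F), Nat.card_sigma]
    refine Finset.dvd_sum fun q _ => dvd_of_eq ?_
    induction q using Quotient.inductionOn' with
    | h c =>
    rw [MulAction.orbitRel.Quotient.orbit_mk,
      ← Nat.card_congr (MulAction.orbitProdStabilizerEquivGroup (omegaZ U) c), Nat.card_prod,
      (Nat.card_eq_one_iff_unique.mpr ⟨inferInstance, ⟨1⟩⟩ :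
        Nat.card (MulAction.stabilizer (omegaZ U) c) = 1), mul_one]
  obtain ⟨hf, hn⟩ := arith hk2 (hge hu) (hge hu') h1 h2 ha hi hdvd
  refine ⟨by rw [card_omegaZ, hn], fun c d hc hd huc hud => ?_⟩
  have hsub : (fun x : omegaZ U => (x : G) • c) '' Set.univ ⊆ F := by
    rintro _ ⟨x, -, rfl⟩
    exact ⟨(hmap c hc huc x x.2).2, (hmap c hc huc x x.2).1⟩
  have hncard : ((fun x : omegaZ U => (x : G) • c) '' Set.univ).ncard = Nat.card (omegaZ U) := by
    rw [Set.ncard_image_of_injective _ ?_, Set.ncard_univ]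
    intro x y e1
    apply Subtype.ext
    have := hinj c hc ((x : G)⁻¹ * y) (mul_mem (inv_mem x.2) y.2) (by
      rw [mul_smul, inv_smul_eq_iff]; exact e1.symm)
    exact inv_mul_eq_one.mp this
  have heq := Set.eq_of_subset_of_ncard_le hsub (by
    rw [hncard, hFcard, card_omegaZ, ← hk]; omega)
  have hdF : d ∈ F := ⟨hud, hd⟩
  rw [← heq] at hdF
  obtain ⟨x, -, rfl⟩ := hdF
  exact ⟨x, x.2, rfl⟩

end CfsgLib.RankOneBN.Nil
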