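import Cfsg.Agent.RankOneBN.Nil.Tools
import Cfsg.Agent.Transfer.ThompsonTransfer

/-!
In a simple group no involution of `B` fixes a second coset.
-/

set_option autoImplicit false
set_option linter.style.haveILetI false

namespace CfsgLib.RankOneBN.Nil

open Cfsg CfsgLib.StronglyEmbedded

universe v

variable {G : Type v} [Group G] [Finite G] {B U : Subgroup G}

/-- `U` has no normal subgroup of index 2 avoiding a bad involution `u` alone in its stabiliser. -/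
theorem false_of_transfer [IsSimpleGroup G] (h : NilSplit B U) (hU2 : IsPGroup 2 U) {b : G ⧸ B}
    (hb : b ≠ ((1 : G) : G ⧸ B)) {u : G} (hu2 : orderOf u = 2)
    (huR : u ∈ U ⊓ MulAction.stabilizer G b)
    (honly : ∀ r ∈ U ⊓ MulAction.stabilizer G b, r = 1 ∨ r = u)
    {Q : Subgroup G} (hQU : Q ≤ U) (hQi : Q.relIndex U = 2) (huQ : u ∉ Q)
    (hQn : ∀ g ∈ U, ∀ x ∈ Q, g * x * g⁻¹ ∈ Q) : False := by
  haveI : Fact (Nat.Prime 2) := ⟨Nat.prime_two⟩
  have hnd : ¬ 2 ∣ U.index := fun e =>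
    Nat.not_even_iff_odd.mpr (index_U_odd h) (even_iff_two_dvd.mpr e)
  let S : Sylow 2 G := hU2.toSylow hnd
  rcases CfsgLib.Transfer.thompsonTransferLemma S Q (by simpa [S] using hQU)
      (by simpa [S] using hQi) u hu2 (by simpa [S] using huR.1) huQ with ⟨M, hM, hMi, -⟩ | ⟨g, hg⟩
  · rcases hM.eq_bot_or_eq_top with rfl | rfl
    · rw [Subgroup.index_bot] at hMi
      have hd : B.index ∣ 2 := hMi ▸ B.index_dvd_card
      rcases (Nat.dvd_prime Nat.prime_two).mp hd with h1 | h1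
      · exact h.ne_top (Subgroup.index_eq_one.mp h1)
      · exact absurd h.odd_index (by rw [h1]; decide)
    · rw [Subgroup.index_top] at hMi; omega
  · set w := g * u * g⁻¹ with hw
    have hfixw : ∀ c : G ⧸ B, u • c = c → w • (g • c) = g • c := fun c hc => by
      rw [hw, mul_smul, mul_smul, inv_smul_smul, hc]
    obtain ⟨d, hd, hwd⟩ : ∃ d, d ≠ ((1 : G) : G ⧸ B) ∧ w • d = d := by
      by_cases hgb : g • b = ((1 : G) : G ⧸ B)
      · refine ⟨_, fun e => hb (smul_left_cancel g (hgb.trans e.symm)),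
          hfixw ((1 : G) : G ⧸ B) (smul_base_iff.mpr (h.le huR.1))⟩
      · exact ⟨_, hgb, hfixw b huR.2⟩
    obtain ⟨γ, hγ, hγb⟩ := isPretransitive_off h hb hd
    have hmem : γ⁻¹ * w * γ ∈ U ⊓ MulAction.stabilizer G b := by
      refine ⟨U.mul_mem (U.mul_mem (U.inv_mem hγ) (hQU hg)) hγ, ?_⟩
      show (γ⁻¹ * w * γ) • b = b
      rw [mul_smul, mul_smul, hγb, hwd, inv_smul_eq_iff, hγb]
    rcases honly _ hmem with h1 | h1
    · refine ne_one_of_orderOf_two hu2 ?_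
      rw [← orderOf_eq_one_iff, ← StronglyEmbedded.orderOf_conj g u, ← hw,
        ← orderOf_conj_inv γ w, h1, orderOf_one]
    · refine huQ (h1 ▸ ?_)
      simpa using hQn γ⁻¹ (inv_mem hγ) w hg

omit [Finite G] in
/-- A subgroup of index 2 through a normal subgroup with elementary quotient. -/
theorem exists_index_two [Finite G] {C : Subgroup G} (hCU : C ≤ U) {u : G} (huU : u ∈ U)
    (huC : u ∉ C) (hsq : ∀ x ∈ U, x * x ∈ C) (hCn : ∀ g ∈ U, ∀ x ∈ C, g * x * g⁻¹ ∈ C) :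
    ∃ Q : Subgroup G, Q ≤ U ∧ Q.relIndex U = 2 ∧ u ∉ Q ∧ ∀ g ∈ U, ∀ x ∈ Q, g * x * g⁻¹ ∈ Q := by
  have hcomm : ∀ x ∈ U, ∀ y ∈ U, x * y * x⁻¹ * y⁻¹ ∈ C := fun x hx y hy => by
    rw [show x * y * x⁻¹ * y⁻¹ =
      (x * y) * (x * y) * (y⁻¹ * (x * x)⁻¹ * y⁻¹⁻¹) * (y * y)⁻¹ by group]
    exact mul_mem (mul_mem (hsq _ (mul_mem hx hy)) (hCn _ (inv_mem hy) _ (inv_mem (hsq x hx))))
      (inv_mem (hsq y hy))
  obtain ⟨Q, hQ, hmax⟩ := (Set.toFinite {Q : Subgroup G | C ≤ Q ∧ Q ≤ U ∧ u ∉ Q}).exists_maximal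
    ⟨C, le_rfl, hCU, huC⟩
  obtain ⟨hCQ, hQU, huQ⟩ := hQ
  have hQn : ∀ g ∈ U, ∀ x ∈ Q, g * x * g⁻¹ ∈ Q := fun g hg x hx => by
    rw [show g * x * g⁻¹ = g * x * g⁻¹ * x⁻¹ * x by group]
    exact mul_mem (hCQ (hcomm g hg x (hQU hx))) hx
  refine ⟨Q, hQU, ?_, huQ, hQn⟩
  have hmain : ∀ x ∈ U, x ∉ Q → x * u ∈ Q := by
    intro x hx hxQ
    let Q' : Subgroup G :=
      { carrier := {y | y ∈ U ∧ (y ∈ Q ∨ y * x ∈ Q)}
        one_mem' := ⟨one_mem U, Or.inl (one_mem Q)⟩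
        mul_mem' := by
          rintro y z ⟨hy, hy'⟩ ⟨hz, hz'⟩
          refine ⟨mul_mem hy hz, ?_⟩
          rcases hy' with hy' | hy' <;> rcases hz' with hz' | hz'
          · exact Or.inl (mul_mem hy' hz')
          · exact Or.inr (by rw [mul_assoc]; exact mul_mem hy' hz')
          · refine Or.inr ?_
            rw [show y * z * x = y * x * (x⁻¹ * z * x⁻¹⁻¹) by group]
            exact mul_mem hy' (hQn _ (inv_mem hx) _ hz')
          · refine Or.inl ?_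
            rw [show y * z = y * x * (x⁻¹ * (z * x) * x⁻¹⁻¹) * (x * x)⁻¹ by group]
            exact mul_mem (mul_mem hy' (hQn _ (inv_mem hx) _ hz')) (inv_mem (hCQ (hsq x hx)))
        inv_mem' := by
          rintro y ⟨hy, hy'⟩
          refine ⟨inv_mem hy, ?_⟩
          rcases hy' with hy' | hy'
          · exact Or.inl (inv_mem hy')
          · refine Or.inr ?_
            rw [show y⁻¹ * x = x * (y * x)⁻¹ * x⁻¹ * (x * x) by group]
            exact mul_mem (hQn x hx _ (inv_mem hy')) (hCQ (hsq x hx)) }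
    have hle : Q ≤ Q' := fun y hy => ⟨hQU hy, Or.inl hy⟩
    by_contra hxu
    have huQ' : u ∉ Q' := by
      rintro ⟨-, h1 | h1⟩
      · exact huQ h1
      · refine hxu ?_
        rw [show x * u = u⁻¹ * (u * x) * u⁻¹⁻¹ by group]
        exact hQn _ (inv_mem huU) _ h1
    have := hmax (y := Q') ⟨hCQ.trans hle, fun y hy => hy.1, huQ'⟩ hle
    exact hxQ (this ⟨hx, Or.inr (hCQ (hsq x hx))⟩)
  rw [Subgroup.relIndex, Subgroup.index_eq_two_iff]
  refine ⟨⟨u, huU⟩, fun x => ?_⟩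
  by_cases hx : (x : G) ∈ Q
  · refine Or.inr ⟨hx, fun h1 => huQ ?_⟩
    have h2 : (x : G) * u ∈ Q := h1
    simpa using mul_mem (inv_mem hx) h2
  · exact Or.inl ⟨hmain x x.2 hx, hx⟩

/-- In a simple group no involution of `B` fixes a second coset. -/
theorem no_bad [IsSimpleGroup G] (h : NilSplit B U) (htwo : HasTwo U) (u : G) : ¬ IsBad B u := by
  classical
  intro hbad
  haveI : Fact (Nat.Prime 2) := ⟨Nat.prime_two⟩
  have hU2 := isPGroup_U h htwo
  obtain ⟨hu2, huB, b, hb, hub⟩ := hbad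
  have hbad : IsBad B u := ⟨hu2, huB, b, hb, hub⟩
  set R := U ⊓ MulAction.stabilizer G b with hR
  have huR : u ∈ R := ⟨involution_mem h huB hu2, hub⟩
  have hu1 : u ≠ 1 := ne_one_of_orderOf_two hu2
  have hRU : R ≤ U := inf_le_left
  set E := omegaZ U with hE
  set q := Nat.card E with hq
  have hindex := (fix_structure h hU2 htwo hbad).1
  have hUcard : Nat.card U = q ^ 3 * Nat.card R := by
    rw [index_sub_one h hb, hindex, Nat.add_sub_cancel]
  have hq2 : 2 ≤ q := by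
    obtain ⟨e, -, he, -, -⟩ := htwo
    haveI : Nontrivial E := ⟨⟨e, (isE_iff.mp he).1⟩, 1, fun e1 =>
      (isE_iff.mp he).2 (congrArg Subtype.val e1)⟩
    exact Finite.one_lt_card
  have hER : ∀ e ∈ E, e ∈ R → e = 1 := fun e he heR => omega_fix h he hb heR.2
  -- elements moving an involution of `R` into `R`
  have mem_RE : ∀ x ∈ U, ∀ r ∈ R, orderOf r = 2 → x⁻¹ * r * x ∈ R → x ∈ withE R hRU := by
    intro x hx r hr hr2 hxr
    have hrbad : IsBad B r := ⟨hr2, h.le hr.1, b, hb, hr.2⟩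
    have hfix : r • (x • b) = x • b := by
      have e1 : (x⁻¹ * r * x) • b = b := hxr.2
      rwa [mul_smul, mul_smul, inv_smul_eq_iff] at e1
    have hne : x • b ≠ ((1 : G) : G ⧸ B) := fun e1 =>
      hb (smul_left_cancel x (e1.trans (smul_base_iff.mpr (h.le hx)).symm))
    obtain ⟨e, he, heb⟩ := (fix_structure h hU2 htwo hrbad).2 b (x • b) hb hne hr.2 hfix
    refine ⟨e, he, e⁻¹ * x, ⟨U.mul_mem (U.inv_mem he.2.1) hx, ?_⟩, (mul_inv_cancel_left e x).symm⟩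
    show (e⁻¹ * x) • b = b
    rw [mul_smul, ← heb, inv_smul_smul]
  have comm_RE : ∀ x ∈ U, ∀ r ∈ R, orderOf r = 2 → Commute x r → x ∈ withE R hRU :=
    fun x hx r hr hr2 hc => mem_RE x hx r hr hr2 (by rwa [mul_assoc, ← hc.eq, inv_mul_cancel_left])
  -- the odd group
  obtain ⟨K, hKB, hKodd, hKR, hKtr⟩ := exists_odd_transitive h hU2 htwo hb huR hu2
  have hKU : ∀ k ∈ K, ∀ x ∈ U, k * x * k⁻¹ ∈ U := fun k hk x hx => h.conj_mem k (hKB hk) x hx
  have hKE : ∀ k ∈ K, ∀ e ∈ E, k * e * k⁻¹ ∈ E := fun k hk e he => omega_B_conj h (hKB hk) he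
  have hKR' : ∀ k ∈ K, ∀ r ∈ R, k * r * k⁻¹ = r := fun k hk r hr => by
    rw [← (hKR k hk r hr).eq, mul_inv_cancel_right]
  have hEK : ∀ e ∈ E, (∀ k ∈ K, Commute k e) → e = 1 := by
    intro e he hcom
    by_contra h1
    obtain ⟨e₁, e₂, he₁, he₂, hne⟩ := htwo
    have hall : ∀ f, IsE U f → f = e := fun f hf => by
      obtain ⟨k, hk, hkf⟩ := hKtr e f (isE_iff.mpr ⟨he, h1⟩) hf
      rw [← hkf, (hcom k hk).eq, mul_inv_cancel_right]
    exact hne ((hall e₁ he₁).trans (hall e₂ he₂).symm)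
  have hCUK : ∀ x ∈ U, (∀ k ∈ K, Commute k x) → x ∈ R := by
    set Y := U ⊓ Subgroup.centralizer (K : Set G) with hY
    have hRY : R ≤ Y := le_inf hRU fun r hr =>
      Subgroup.mem_centralizer_iff.mpr fun k hk => ((hKR k hk r hr).symm).eq
    suffices hYR : Y ≤ R from
      fun x hx hcom => hYR ⟨hx, Subgroup.mem_centralizer_iff.mpr fun k hk => (hcom k hk).eq⟩
    by_contra hne
    obtain ⟨y, hy, hyR, hyn⟩ := exists_normalizer_step (hU2.to_le (inf_le_left : Y ≤ U)) hRY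
      (fun e => hne e.symm.le)
    obtain ⟨e, he, r, hr, hyer⟩ := mem_RE y hy.1 (y * u * y⁻¹) (hyn u huR)
      (by rw [StronglyEmbedded.orderOf_conj, hu2])
      (by rwa [show y⁻¹ * (y * u * y⁻¹) * y = u by group])
    refine hyR ?_
    have he1 : e = 1 := hEK e he fun k hk => by
      have h1 : Commute k y := Subgroup.mem_centralizer_iff.mp hy.2 k hk
      have h2 : Commute k r := (hKR k hk r hr).symm
      rw [eq_mul_inv_of_mul_eq hyer.symm]
      exact h1.mul_right h2.inv_right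
    rw [hyer, he1, one_mul]; exact hr
  have hcop : ∀ X : Subgroup G, X ≤ U → (Nat.card K).Coprime (Nat.card X) := fun X hX => by
    obtain ⟨n, hn⟩ := IsPGroup.iff_card.mp (hU2.to_le hX)
    rw [hn]
    exact ((Nat.coprime_two_right.mpr hKodd)).pow_right n
  -- moving a coset by `K`
  have exists_move : ∀ X : Subgroup G, X ≤ U → R ≤ X → (∀ k ∈ K, ∀ x ∈ X, k * x * k⁻¹ ∈ X) →
      ∀ g ∈ U, g ∉ X → ∃ k ∈ K, g⁻¹ * (k * g * k⁻¹) ∉ X := by
    intro X hXU hRX hKX g hg hgX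
    by_contra hall
    push_neg at hall
    haveI : Group.IsNilpotent X := (hU2.to_le hXU).isNilpotent
    obtain ⟨x, hx, hfix⟩ := Coprime.exists_fixed_coset (A := K) (H := X)
      (Coprime.le_normalizer_of_conj_mem hKX) (hcop X hXU) (Or.inr inferInstance) hall
    have hgx : g * x ∈ R := hCUK _ (mul_mem hg (hXU hx)) fun k hk =>
      Subgroup.mem_centralizer_iff.mp hfix k hk
    exact hgX (by simpa using mul_mem (hRX hgx) (inv_mem hx))
  set RE := withE R hRU with hRE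
  have hRRE : R ≤ RE := fun r hr => ⟨1, one_mem _, r, hr, (one_mul r).symm⟩
  have hERE : E ≤ RE := fun e he => ⟨e, he, 1, one_mem _, (mul_one e).symm⟩
  have hREU : RE ≤ U := by
    rintro _ ⟨e, he, r, hr, rfl⟩
    exact mul_mem (omega_mem he) (hRU hr)
  have hREK : ∀ k ∈ K, ∀ x ∈ RE, k * x * k⁻¹ ∈ RE := by
    rintro k hk _ ⟨e, he, r, hr, rfl⟩
    exact ⟨k * e * k⁻¹, hKE k hk e he, r, hr, by
      conv_rhs => arg 2; rw [← hKR' k hk r hr]
      group⟩
  have hREcard : Nat.card RE = q * Nat.card R := by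
    rw [hq, ← Nat.card_prod]
    exact (Nat.card_congr (Equiv.ofBijective
      (fun x : E × R => (⟨(x.1 : G) * x.2, x.1, x.1.2, x.2, x.2.2, rfl⟩ : RE))
      ⟨fun x y e => by
        have e1 : (x.1 : G) * x.2 = y.1 * y.2 := congrArg Subtype.val e
        have e2 : (y.1 : G)⁻¹ * x.1 = 1 := hER _ (mul_mem (inv_mem y.1.2) x.1.2) (by
          rw [show (y.1 : G)⁻¹ * x.1 = (y.1 : G)⁻¹ * ((x.1 : G) * x.2) * (x.2 : G)⁻¹ by group, e1,
            inv_mul_cancel_left]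
          exact mul_mem y.2.2 (inv_mem x.2.2))
        have e3 := inv_mul_eq_one.mp e2
        rw [e3] at e1
        exact Prod.ext (Subtype.ext e3.symm) (Subtype.ext (mul_left_cancel e1)),
      fun ⟨_, e, he, r, hr, e1⟩ => ⟨(⟨e, he⟩, ⟨r, hr⟩), Subtype.ext e1.symm⟩⟩)).symm
  have hRpos : 0 < Nat.card R := Nat.card_pos
  have hqlt : q * Nat.card R < Nat.card U := by
    rw [hUcard]
    exact Nat.mul_lt_mul_of_pos_right (lt_self_pow₀ hq2 (by norm_num)) hRpos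
  set P := pSub R U with hP
  have hPK : ∀ k ∈ K, ∀ x ∈ P, k * x * k⁻¹ ∈ P := fun k hk x hx => ⟨hKU k hk x hx.1, fun r hr => by
    rw [← hKR' k hk r hr, comm_conj]
    exact hKE k hk _ (hx.2 r hr)⟩
  -- an element of `P` outside `RE`
  obtain ⟨g₁, hg₁P, hg₁RE⟩ : ∃ g, g ∈ P ∧ g ∉ RE := by
    obtain ⟨g₀, hg₀U, hg₀, hg₀n⟩ := exists_normalizer_step hU2 hREU
      (fun e => by rw [← e, hREcard] at hqlt; exact lt_irrefl _ hqlt)
    obtain ⟨k, hk, hk'⟩ := exists_move RE hREU hRRE hREK g₀ hg₀U hg₀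
    refine ⟨_, ⟨mul_mem (inv_mem hg₀U) (hKU k hk _ hg₀U), fun r hr => ?_⟩, hk'⟩
    obtain ⟨e₁, he₁, r₁, hr₁, h1⟩ := hg₀n r (hRRE hr)
    have h2 : g₀⁻¹ * r₁ * g₀ = e₁⁻¹ * r := by
      have h3 : r₁ = e₁⁻¹ * (g₀ * r * g₀⁻¹) := by rw [h1, inv_mul_cancel_left]
      rw [h3, show g₀⁻¹ * (e₁⁻¹ * (g₀ * r * g₀⁻¹)) * g₀ =
        (g₀⁻¹ * e₁⁻¹ * g₀⁻¹⁻¹) * r by group, omega_conj_eq (inv_mem he₁) (inv_mem hg₀U)]
    have e1 : comm (g₀⁻¹ * (k * g₀ * k⁻¹)) r =
        g₀⁻¹ * (k * e₁ * k⁻¹) * g₀⁻¹⁻¹ * (g₀⁻¹ * r₁ * g₀) * r⁻¹ := by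
      have hkr : k⁻¹ * r * k = r := by rw [mul_assoc, (hKR k hk r hr).eq, inv_mul_cancel_left]
      calc comm (g₀⁻¹ * (k * g₀ * k⁻¹)) r
          = g₀⁻¹ * (k * (g₀ * (k⁻¹ * r * k) * g₀⁻¹) * k⁻¹) * g₀ * r⁻¹ := by
            simp only [comm]; group
        _ = g₀⁻¹ * (k * (e₁ * r₁) * k⁻¹) * g₀ * r⁻¹ := by rw [hkr, h1]
        _ = g₀⁻¹ * ((k * e₁ * k⁻¹) * (k * r₁ * k⁻¹)) * g₀ * r⁻¹ := by group
        _ = _ := by rw [hKR' k hk r₁ hr₁]; group
    rw [e1, omega_conj_eq (hKE k hk e₁ he₁) (inv_mem hg₀U), h2, mul_assoc, mul_inv_cancel_right]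
    exact mul_mem (hKE k hk e₁ he₁) (inv_mem he₁)
  -- the homomorphisms attached to the elements of `R`
  have hψmul : ∀ x ∈ P, ∀ y ∈ P, ∀ r ∈ R, comm (x * y) r = comm x r * comm y r := by
    intro x hx y hy r hr
    rw [comm_mul_eq, omega_conj_eq (hy.2 r hr) hx.1]
    exact ((omega_comm (hx.2 r hr) (omega_mem (hy.2 r hr)))).eq
  have hψr : ∀ x ∈ P, ∀ r ∈ R, ∀ r' ∈ R, comm x (r * r') = comm x r * comm x r' := by
    intro x hx r hr r' hr'
    rw [show comm x (r * r') = comm x r * (r * comm x r' * r⁻¹) by simp only [comm]; group,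
      omega_conj_eq (hx.2 r' hr') (hRU hr)]
  have hψker : ∀ x ∈ P, ∀ r ∈ R, orderOf r = 2 → comm x r = 1 → x ∈ RE := fun x hx r hr hr2 h1 =>
    comm_RE x hx.1 r hr hr2 (comm_eq_one_iff.mp h1)
  have honto : ∀ r ∈ R, orderOf r = 2 → ∀ e ∈ E, ∃ p ∈ P, comm p r = e := by
    intro r hr hr2 e he
    rcases eq_or_ne e 1 with rfl | h1
    · exact ⟨1, one_mem _, by simp [comm]⟩
    obtain ⟨k, hk, hke⟩ := hKtr (comm g₁ r) e
      (isE_iff.mpr ⟨hg₁P.2 r hr, fun e1 => hg₁RE (hψker g₁ hg₁P r hr hr2 e1)⟩) (isE_iff.mpr ⟨he, h1⟩)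
    refine ⟨k * g₁ * k⁻¹, hPK k hk g₁ hg₁P, ?_⟩
    rw [← hKR' k hk r hr, comm_conj, hke]
  -- `R` is elementary abelian
  have hexp : ∀ r ∈ R, r * r = 1 := by
    intro r hr
    by_contra h1
    obtain ⟨i, hi⟩ := IsPGroup.iff_orderOf.mp hU2 ⟨r, hRU hr⟩
    rw [Subgroup.orderOf_mk] at hi
    rcases i with _ | _ | i
    · exact h1 (by rw [orderOf_eq_one_iff.mp (hi.trans (pow_zero 2)), mul_one])
    · exact h1 (mul_self_eq_one (hi.trans (pow_one 2)))
    · set r' := r ^ 2 ^ i with hr'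
      have hr'R : r' ∈ R := pow_mem hr _
      have hr'4 : orderOf r' = 4 := by
        rw [hr', orderOf_pow' _ (pow_ne_zero _ two_ne_zero), hi,
          Nat.gcd_eq_right (pow_dvd_pow 2 (by omega)), Nat.pow_div (by omega) two_pos,
          show i + 1 + 1 - i = 2 by omega]
        rfl
      have h2 : orderOf (r' * r') = 2 := by
        rw [← sq, orderOf_pow' _ two_ne_zero, hr'4]
        rfl
      refine hg₁RE (hψker g₁ hg₁P _ (mul_mem hr'R hr'R) h2 ?_)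
      rw [hψr g₁ hg₁P r' hr'R r' hr'R]
      exact omega_sq (hg₁P.2 r' hr'R)
  have hinv : ∀ r ∈ R, r ≠ 1 → orderOf r = 2 := fun r hr h1 =>
    orderOf_two_iff.mpr ⟨hexp r hr, h1⟩
  have hRcomm : ∀ r ∈ R, ∀ r' ∈ R, Commute r r' := by
    intro r hr r' hr'
    calc r * r' = (r * r')⁻¹ := eq_inv_of_mul_eq_one_left (hexp _ (mul_mem hr hr'))
      _ = r' * r := by
        rw [mul_inv_rev, inv_eq_of_mul_eq_one_right (hexp r hr),
          inv_eq_of_mul_eq_one_right (hexp r' hr')]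
  have hcommRE : ∀ x ∈ RE, ∀ r ∈ R, comm x r = 1 := by
    rintro _ ⟨e, he, r', hr', rfl⟩ r hr
    exact comm_eq_one_iff.mpr (((omega_comm he (hRU hr)).symm).mul_left (hRcomm r' hr' r hr))
  have hREP : RE ≤ P := fun x hx => ⟨hREU hx, fun r hr => by
    rw [hcommRE x hx r hr]; exact one_mem _⟩
  have hPU : P ≤ U := fun x hx => hx.1
  have hEP : E ≤ P := hERE.trans hREP
  have hPcard : Nat.card P = q * Nat.card R * q := by
    rw [← hREcard]
    exact card_eq_of_map (fun x => comm x u) (fun x hx => hx.2 u huR)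
      (fun x hx y hy => hψmul x hx y hy u huR) (honto u huR hu2)
      (fun x hx => ⟨hψker x hx u huR hu2, fun hx' => hcommRE x hx' u huR⟩) hREP
  have hsqP : ∀ x ∈ P, x * x ∈ E := by
    intro x hx
    have h1 : comm (x * x) u = 1 := by
      rw [hψmul x hx x hx u huR]; exact omega_sq (hx.2 u huR)
    obtain ⟨e, he, r, hr, hxx⟩ := hψker _ (mul_mem hx hx) u huR hu2 h1
    rcases eq_or_ne r 1 with rfl | hr1
    · rw [hxx, mul_one]; exact he
    · have hc : Commute x r := by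
        have h2 : Commute x (x * x) := (Commute.refl x).mul_right (Commute.refl x)
        have h3 : r = e⁻¹ * (x * x) := by rw [hxx, inv_mul_cancel_left]
        rw [h3]
        exact (omega_comm (inv_mem he) hx.1).mul_right h2
      obtain ⟨e', he', r', hr', rfl⟩ := comm_RE x hx.1 r hr (hinv r hr hr1) hc
      rw [(omega_comm he' (hRU hr')).mul_mul_mul_comm, omega_sq he', hexp r' hr', one_mul]
      exact one_mem _
  have hcommP : ∀ x ∈ P, ∀ y ∈ P, x * y * x⁻¹ * y⁻¹ ∈ E := fun x hx y hy => by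
    rw [show x * y * x⁻¹ * y⁻¹ =
      (x * y) * (x * y) * (y⁻¹ * (x * x)⁻¹ * y⁻¹⁻¹) * (y * y)⁻¹ by group,
      omega_conj_eq (inv_mem (hsqP x hx)) (inv_mem hy.1)]
    exact mul_mem (mul_mem (hsqP _ (mul_mem hx hy)) (inv_mem (hsqP x hx))) (inv_mem (hsqP y hy))
  -- the normaliser of `P`
  set N := U ⊓ Subgroup.normalizer (P : Set G) with hN
  have hNU : N ≤ U := inf_le_left
  have hPN : P ≤ N := le_inf hPU Subgroup.le_normalizer
  have hNP : ∀ g ∈ N, ∀ x ∈ P, g * x * g⁻¹ ∈ P := fun g hg x hx =>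
    (Subgroup.mem_normalizer_iff.mp hg.2 x).mp hx
  have hKnP : ∀ k ∈ K, k ∈ Subgroup.normalizer (P : Set G) := fun k hk =>
    Coprime.le_normalizer_of_conj_mem hPK hk
  have hKN : ∀ k ∈ K, ∀ g ∈ N, k * g * k⁻¹ ∈ N := fun k hk g hg =>
    ⟨hKU k hk g hg.1, Subgroup.mul_mem _ (Subgroup.mul_mem _ (hKnP k hk) hg.2)
      (Subgroup.inv_mem _ (hKnP k hk))⟩
  obtain ⟨g₀, hg₀N, hg₀P⟩ : ∃ g, g ∈ N ∧ g ∉ P := by
    obtain ⟨g, hgU, hgP, hgn⟩ := exists_normalizer_step hU2 hPU (fun e => by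
      have h1 : Nat.card P = Nat.card U := by rw [e]
      rw [hPcard, hUcard] at h1
      have h2 : q * q * Nat.card R < q ^ 3 * Nat.card R :=
        Nat.mul_lt_mul_of_pos_right (by nlinarith) hRpos
      nlinarith)
    exact ⟨g, ⟨hgU, CfsgLib.StrongEmb.NoOdd.mem_normalizer_of_invariant hgn⟩, hgP⟩
  have heq_mem : ∀ g ∈ U, ∀ r ∈ R, r ≠ 1 → comm g r ∈ E → g ∈ P := by
    intro g hg r hr hr1 he
    obtain ⟨p, hp, hpe⟩ := honto r hr (hinv r hr hr1) _ he
    have h1 : Commute (p⁻¹ * g) r := by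
      rw [← comm_eq_one_iff, comm_mul_eq, ← hpe]
      simp only [comm]; group
    have h2 := mul_mem hp (hREP (comm_RE _ (mul_mem (inv_mem hp.1) hg) r hr (hinv r hr hr1) h1))
    rwa [mul_inv_cancel_left] at h2
  let C : Subgroup G :=
    { carrier := {x | x ∈ P ∧ ∀ g ∈ N, comm g x ∈ E}
      one_mem' := ⟨one_mem P, fun g _ => by simp [comm]⟩
      mul_mem' := fun {x y} hx hy => ⟨mul_mem hx.1 hy.1, fun g hg => by
        rw [show comm g (x * y) = comm g x * (x * comm g y * x⁻¹) by simp only [comm]; group,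
          omega_conj_eq (hy.2 g hg) hx.1.1]
        exact mul_mem (hx.2 g hg) (hy.2 g hg)⟩
      inv_mem' := fun {x} hx => ⟨inv_mem hx.1, fun g hg => by
        rw [show comm g x⁻¹ = x⁻¹ * (comm g x)⁻¹ * x⁻¹⁻¹ by simp only [comm]; group,
          omega_conj_eq (inv_mem (hx.2 g hg)) (inv_mem hx.1.1)]
        exact inv_mem (hx.2 g hg)⟩ }
  have hCP : C ≤ P := fun x hx => hx.1
  have hEC : E ≤ C := fun e he => ⟨hEP he, fun g hg => by
    rw [comm_eq_one_iff.mpr (omega_comm he (hNU hg))]; exact one_mem _⟩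
  have hCN : ∀ g ∈ N, ∀ x ∈ C, g * x * g⁻¹ ∈ C := fun g hg x hx => by
    rw [show g * x * g⁻¹ = comm g x * x by simp only [comm]; group]
    exact mul_mem (hEC (hx.2 g hg)) hx
  have hCK : ∀ k ∈ K, ∀ x ∈ C, k * x * k⁻¹ ∈ C := fun k hk x hx => ⟨hPK k hk x hx.1, fun g hg => by
    rw [show g = k * (k⁻¹ * g * k) * k⁻¹ by group, comm_conj]
    refine hKE k hk _ (hx.2 _ ?_)
    simpa using hKN k⁻¹ (inv_mem hk) g hg⟩
  have hCRE : ∀ x ∈ C, x ∈ RE → x ∈ E := by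
    rintro _ hx ⟨e, he, r, hr, rfl⟩
    rcases eq_or_ne r 1 with rfl | hr1
    · rwa [mul_one]
    · exfalso
      have hrC : r ∈ C := by simpa using mul_mem (inv_mem (hEC he)) hx
      exact hg₀P (heq_mem g₀ hg₀N.1 r hr hr1 (hrC.2 g₀ hg₀N))
  -- `C` is larger than `E`
  obtain ⟨c₀, hc₀C, hc₀E⟩ : ∃ c, c ∈ C ∧ c ∉ E := by
    set E₁ := E.subgroupOf N with hE₁
    haveI : E₁.Normal := ⟨fun x hx g => by
      have h1 : ((g * x * g⁻¹ : N) : G) = x := by
        simpa using omega_conj_eq (hx : (x : G) ∈ E) (hNU g.2)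
      show ((g * x * g⁻¹ : N) : G) ∈ E
      rw [h1]; exact hx⟩
    haveI : (P.subgroupOf N).Normal := ⟨fun x hx g => hNP g g.2 x hx⟩
    haveI : Group.IsNilpotent N := (hU2.to_le hNU).isNilpotent
    haveI : Group.IsNilpotent (↥N ⧸ E₁) := Group.nilpotent_of_surjective (QuotientGroup.mk' E₁)
      (QuotientGroup.mk'_surjective E₁)
    haveI : ((P.subgroupOf N).map (QuotientGroup.mk' E₁)).Normal :=
      Subgroup.Normal.map inferInstance _ (QuotientGroup.mk'_surjective E₁)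
    have hne : (P.subgroupOf N).map (QuotientGroup.mk' E₁) ≠ ⊥ := fun e => by
      have hm : (⟨g₁, hPN hg₁P⟩ : N) ∈ P.subgroupOf N := hg₁P
      have := Subgroup.mem_bot.mp (e ▸ Subgroup.mem_map_of_mem (QuotientGroup.mk' E₁) hm)
      have h4 : (⟨g₁, hPN hg₁P⟩ : N) ∈ E₁ := (QuotientGroup.eq_one_iff _).mp this
      exact hg₁RE (hERE h4)
    obtain ⟨⟨z, ⟨x, hx, rfl⟩, hzc⟩, hz1⟩ :=
      Subgroup.ne_bot_iff_exists_ne_one.mp (Cfsg.Agent.S0065.result _ hne)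
    refine ⟨(x : G), ⟨hx, fun g hg => ?_⟩,
      fun hxE => hz1 (Subtype.ext ((QuotientGroup.eq_one_iff _).mpr hxE))⟩
    have h1 := Subgroup.mem_center_iff.mp hzc (QuotientGroup.mk' E₁ ⟨g, hg⟩)
    rw [← map_mul, ← map_mul] at h1
    have h2 : QuotientGroup.mk' E₁ (⟨g, hg⟩ * x * ⟨g, hg⟩⁻¹ * x⁻¹) = 1 := by
      rw [map_mul, map_mul, h1, map_mul, map_inv, map_inv]; group
    have h4 : (⟨g, hg⟩ * x * ⟨g, hg⟩⁻¹ * x⁻¹ : N) ∈ E₁ := (QuotientGroup.eq_one_iff _).mp h2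
    exact h4
  have hcP : ∀ c ∈ C, c ∉ E → ∀ r ∈ R, r ≠ 1 → IsE U (comm c r) := fun c hc hcE r hr hr1 =>
    isE_iff.mpr ⟨(hCP hc).2 r hr, fun e => hcE (hCRE c hc (hψker c (hCP hc) r hr (hinv r hr hr1) e))⟩
  have hontoC : ∀ e ∈ E, ∃ c ∈ C, comm c u = e := by
    intro e he
    rcases eq_or_ne e 1 with rfl | h1
    · exact ⟨1, one_mem _, by simp [comm]⟩
    obtain ⟨k, hk, hke⟩ := hKtr _ e (hcP c₀ hc₀C hc₀E u huR hu1) (isE_iff.mpr ⟨he, h1⟩)
    exact ⟨k * c₀ * k⁻¹, hCK k hk c₀ hc₀C, by rw [← hKR' k hk u huR, comm_conj, hke]⟩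
  have hPeq : ∀ p ∈ P, ∃ c ∈ C, ∃ r ∈ R, p = c * r := by
    intro p hp
    obtain ⟨c, hc, hce⟩ := hontoC _ (hp.2 u huR)
    have h1 : comm (c⁻¹ * p) u = 1 := by
      rw [hψmul _ (inv_mem (hCP hc)) p hp u huR, ← hce, ← hψmul _ (inv_mem (hCP hc)) c (hCP hc) u huR,
        inv_mul_cancel]
      simp [comm]
    obtain ⟨e, he, r, hr, hcp⟩ := hψker _ (mul_mem (inv_mem (hCP hc)) hp) u huR hu2 h1
    exact ⟨c * e, mul_mem hc (hEC he), r, hr, by rw [mul_assoc, ← hcp, mul_inv_cancel_left]⟩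
  -- an element of `N` moving every nontrivial element of `R` modulo `E`
  obtain ⟨g, hgN, hgP, hgC⟩ : ∃ g, g ∈ N ∧ g ∉ P ∧ ∀ r ∈ R, comm g r ∈ C := by
    obtain ⟨k, hk, hk'⟩ := exists_move P hPU (hRRE.trans hREP) hPK g₀ hg₀N.1 hg₀P
    refine ⟨_, mul_mem (inv_mem hg₀N) (hKN k hk _ hg₀N), hk', fun r hr => ?_⟩
    obtain ⟨c₁, hc₁, r₁, hr₁, h1⟩ := hPeq _ (hNP g₀ hg₀N r (hREP (hRRE hr)))
    have hkr : k⁻¹ * r * k = r := by rw [mul_assoc, (hKR k hk r hr).eq, inv_mul_cancel_left]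
    have h3 : r₁ = c₁⁻¹ * (g₀ * r * g₀⁻¹) := by rw [h1, inv_mul_cancel_left]
    have e1 : comm (g₀⁻¹ * (k * g₀ * k⁻¹)) r =
        g₀⁻¹ * ((k * c₁ * k⁻¹) * c₁⁻¹) * g₀⁻¹⁻¹ := by
      calc comm (g₀⁻¹ * (k * g₀ * k⁻¹)) r
          = g₀⁻¹ * (k * (g₀ * (k⁻¹ * r * k) * g₀⁻¹) * k⁻¹) * g₀ * r⁻¹ := by
            simp only [comm]; group
        _ = g₀⁻¹ * (k * (c₁ * r₁) * k⁻¹) * g₀ * r⁻¹ := by rw [hkr, h1]
        _ = g₀⁻¹ * ((k * c₁ * k⁻¹) * (k * r₁ * k⁻¹)) * g₀ * r⁻¹ := by group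
        _ = _ := by rw [hKR' k hk r₁ hr₁, h3]; group
    rw [e1]
    exact hCN _ (inv_mem hg₀N) _ (mul_mem (hCK k hk c₁ hc₁) (inv_mem hc₁))
  have hδE : ∀ r ∈ R, r ≠ 1 → comm g r ∉ E := fun r hr hr1 he => hgP (heq_mem g hgN.1 r hr hr1 he)
  have hδsq : ∀ r ∈ R, comm (comm g r) r = comm g r * comm g r := by
    intro r hr
    have hrr := hexp r hr
    set δ := comm g r with hδ
    have h1 : δ * r * (δ * r) = 1 := by
      rw [hδ, comm, inv_mul_cancel_right, show g * r * g⁻¹ * (g * r * g⁻¹) = g * (r * r) * g⁻¹ by group,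
        hrr, mul_one, mul_inv_cancel]
    have hri : r⁻¹ = r := inv_eq_of_mul_eq_one_right hrr
    have h2 : δ⁻¹ = r * δ * r := inv_eq_of_mul_eq_one_right (by
      rw [← h1]; simp only [mul_assoc])
    rw [show comm δ r = δ * r * δ⁻¹ * r⁻¹ from rfl, h2, hri,
      show δ * r * (r * δ * r) * r = δ * (r * r) * δ * (r * r) by group, hrr, mul_one, mul_one]
  -- `R` has order 2
  have honly : ∀ r ∈ R, r = 1 ∨ r = u := by
    intro v hv
    by_contra hne
    push_neg at hne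
    obtain ⟨hv1, hvu⟩ := hne
    set δu := comm g u with hdu
    set δv := comm g v with hdv
    have hduC : δu ∈ C := hgC u huR
    have hdvC : δv ∈ C := hgC v hv
    obtain ⟨k, hk, hke⟩ := hKtr _ _ (hcP δv hdvC (hδE v hv hv1) u huR hu1)
      (hcP δu hduC (hδE u huR hu1) u huR hu1)
    rw [← comm_conj, hKR' k hk u huR] at hke
    set c := k * δv * k⁻¹ with hc
    have hcC : c ∈ C := hCK k hk δv hdvC
    have h1 : δu⁻¹ * c ∈ E := by
      refine hCRE _ (mul_mem (inv_mem hduC) hcC)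
        (hψker _ (hCP (mul_mem (inv_mem hduC) hcC)) u huR hu2 ?_)
      rw [hψmul _ (inv_mem (hCP hduC)) c (hCP hcC) u huR, hke,
        ← hψmul _ (inv_mem (hCP hduC)) δu (hCP hduC) u huR, inv_mul_cancel]
      simp [comm]
    have h2 : c * c = δu * δu := by
      have h3 : c = δu * (δu⁻¹ * c) := (mul_inv_cancel_left δu c).symm
      rw [h3, (omega_comm h1 (hCP hduC).1).symm.mul_mul_mul_comm, omega_sq h1, mul_one]
    have h4 : comm c v = c * c := by
      rw [hc, ← hKR' k hk v hv, comm_conj, hδsq v hv]; group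
      rfl
    have h5 : comm δu v = comm δu u := by
      rw [hδsq u huR, ← h2, ← h4]
      have h6 : comm (δu⁻¹ * c) v = 1 := comm_eq_one_iff.mpr (omega_comm h1 (hRU hv)).symm
      have h7 := hψmul δu (hCP hduC) _ (hEP h1) v hv
      rwa [mul_inv_cancel_left, h6, mul_one, eq_comm] at h7
    refine hδE u huR hu1 (hCRE δu hduC (hψker δu (hCP hduC) (u * v) (mul_mem huR hv)
      (hinv _ (mul_mem huR hv) fun e => hvu ?_) ?_))
    · rw [eq_inv_of_mul_eq_one_right e, inv_eq_self hu2]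
    · rw [hψr δu (hCP hduC) u huR v hv, h5]
      exact omega_sq ((hCP hduC).2 u huR)
  have hRcard : Nat.card R = 2 := by
    refine Nat.card_eq_two_iff.mpr ⟨⟨1, one_mem R⟩, ⟨u, huR⟩, fun e => hu1 (congrArg Subtype.val e).symm, ?_⟩
    ext r
    simp only [Set.mem_insert_iff, Set.mem_singleton_iff, Set.mem_univ, iff_true]
    rcases honly r r.2 with e | e
    · exact Or.inl (Subtype.ext e)
    · exact Or.inr (Subtype.ext e)
  -- the action on `u` modulo `C`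
  have huC : u ∉ C := fun hc => hu1 (hER u (hCRE u hc (hRRE huR)) huR)
  have hθ : ∀ x ∈ N, comm x u ∈ C := by
    intro x hx
    obtain ⟨c, hc, r, hr, hxu⟩ := hPeq _ (hNP x hx u (hREP (hRRE huR)))
    rcases honly r hr with rfl | rfl
    · exfalso
      refine huC ?_
      have := hCN x⁻¹ (inv_mem hx) (x * u * x⁻¹) (by rw [hxu, mul_one]; exact hc)
      simpa [mul_assoc] using this
    · rw [comm, hxu, mul_inv_cancel_right]; exact hc
  have hf_mem : ∀ x ∈ N, comm (comm x u) u ∈ E := fun x hx => (hCP (hθ x hx)).2 u huR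
  have hf_mul : ∀ x ∈ N, ∀ y ∈ N,
      comm (comm (x * y) u) u = comm (comm x u) u * comm (comm y u) u := by
    intro x hx y hy
    have hy' := hCP (hθ y hy)
    have hx' := hCP (hθ x hx)
    have he : comm x (comm y u) ∈ E := (hθ y hy).2 x hx
    rw [comm_mul_eq, show x * comm y u * x⁻¹ = comm x (comm y u) * comm y u by
        simp only [comm]; group,
      hψmul _ (mul_mem (hEP he) hy') _ hx' u huR, hψmul _ (hEP he) _ hy' u huR,
      comm_eq_one_iff.mpr (omega_comm he (hRU huR)).symm, one_mul]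
    exact (omega_comm (hf_mem x hx) (omega_mem (hf_mem y hy))).eq
  have hf_ker : ∀ x ∈ N, comm (comm x u) u = 1 ↔ x ∈ P := by
    intro x hx
    refine ⟨fun h1 => heq_mem x hx.1 u huR hu1 ?_, fun hxP => ?_⟩
    · exact hCRE _ (hθ x hx) (hψker _ (hCP (hθ x hx)) u huR hu2 h1)
    · exact comm_eq_one_iff.mpr (omega_comm (hxP.2 u huR) (hRU huR)).symm
  have hf_onto : ∀ e ∈ E, ∃ x ∈ N, comm (comm x u) u = e := by
    intro e he
    rcases eq_or_ne e 1 with rfl | h1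
    · exact ⟨1, one_mem _, by simp [comm]⟩
    obtain ⟨k, hk, hke⟩ := hKtr (comm (comm g u) u) e
      (hcP _ (hθ g hgN) (hδE u huR hu1) u huR hu1) (isE_iff.mpr ⟨he, h1⟩)
    refine ⟨k * g * k⁻¹, hKN k hk g hgN, ?_⟩
    conv_lhs => rw [← hKR' k hk u huR]
    rw [comm_conj, comm_conj, hke]
  have hNcard : Nat.card N = Nat.card P * q :=
    card_eq_of_map (fun x => comm (comm x u) u) hf_mem hf_mul hf_onto hf_ker hPN
  have hNeq : N = U := Subgroup.eq_of_le_of_card_ge hNU (by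
    rw [hNcard, hPcard, hUcard]; exact le_of_eq (by ring))
  -- `U/C` is elementary abelian
  have hsq : ∀ x ∈ U, x * x ∈ C := by
    intro x hx
    have hxN : x ∈ N := hNeq.symm ▸ hx
    have h1 : x * x ∈ P := (hf_ker _ (mul_mem hxN hxN)).mp (by
      rw [hf_mul x hxN x hxN]; exact omega_sq (hf_mem x hxN))
    obtain ⟨c, hc, r, hr, hxx⟩ := hPeq _ h1
    rcases honly r hr with rfl | rfl
    · rw [hxx, mul_one]; exact hc
    · have h2 : x * r * x⁻¹ = (x * c⁻¹ * x⁻¹) * (x * x) := by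
        have : r = c⁻¹ * (x * x) := by rw [hxx, inv_mul_cancel_left]
        conv_lhs => rw [this]
        group
      have h3 : comm x r = comm x c⁻¹ := by
        rw [comm, h2, hxx]; simp only [comm]; group
      have hxP : x ∈ P := heq_mem x hx r huR hu1 (h3 ▸ (inv_mem hc : c⁻¹ ∈ C).2 x hxN)
      exact hEC (hsqP x hxP)
  have hCn : ∀ x ∈ U, ∀ y ∈ C, x * y * x⁻¹ ∈ C := fun x hx y hy =>
    hCN x (hNeq.symm ▸ hx) y hy
  obtain ⟨Q, hQU, hQi, huQ, hQn⟩ := exists_index_two (hCP.trans hPU) (hRU huR) huC hsq hCn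
  exact false_of_transfer h hU2 hb hu2 huR honly hQU hQi huQ hQn

end CfsgLib.RankOneBN.Nil
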