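import Cfsg.Agent.RankOneBN.Nil.Layers
import Cfsg.Agent.S0215

/-!
A nilpotent normal subgroup transitive off a subgroup of odd index of a simple group is a 2-group,
regular off it, and the subgroup is strongly embedded.
-/

set_option autoImplicit false
set_option linter.style.haveILetI false

namespace CfsgLib.RankOneBN.Nil

open Cfsg CfsgLib.StronglyEmbedded

universe v

variable {G : Type v} [Group G] [Finite G] {B U : Subgroup G}

theorem hasTwo_of_simple [IsSimpleGroup G] (h : NilSplit B U) : HasTwo U := by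
  classical
  haveI : Fact (Nat.Prime 2) := ⟨Nat.prime_two⟩
  obtain ⟨z, hz⟩ := exists_isE h
  by_contra hno
  have huniq : ∀ e, IsE U e → e = z := fun e he => by_contra fun hne => hno ⟨e, z, he, hz, hne⟩
  -- a Sylow 2-subgroup of `G` inside `U`
  obtain ⟨S₀⟩ := (Sylow.nonempty : Nonempty (Sylow 2 U))
  have hcard : Nat.card ↥((S₀ : Subgroup U).map U.subtype) = 2 ^ (Nat.card G).factorization 2 := by
    rw [Subgroup.card_map_of_injective U.subtype_injective, S₀.card_eq_multiplicity,
      ← Subgroup.card_mul_index U, Nat.factorization_mul Nat.card_pos.ne' U.index_ne_zero_of_finite,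
      Finsupp.add_apply, Nat.factorization_eq_zero_of_not_dvd
        (fun hd => Nat.not_even_iff_odd.mpr (index_U_odd h) (even_iff_two_dvd.mpr hd)), add_zero]
  have hzS : z ∈ (S₀ : Subgroup U).map U.subtype := by
    haveI := h.nilp
    have hSn : (S₀ : Subgroup U).Normal :=
      (Group.isNilpotent_of_finite_tfae (G := U)).out 0 3 rfl rfl |>.mp h.nilp 2 inferInstance S₀
    have hxp : IsPGroup 2 ↥(Subgroup.zpowers (⟨z, hz.2.1⟩ : U)) :=
      IsPGroup.of_card (n := 1) (by rw [Nat.card_zpowers, Subgroup.orderOf_mk, hz.1, pow_one])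
    obtain ⟨S', hS'⟩ := hxp.exists_le_sylow
    haveI := Sylow.unique_of_normal S₀ hSn
    have e : S' = S₀ := Subsingleton.elim _ _
    exact ⟨⟨z, hz.2.1⟩, e ▸ hS' (Subgroup.mem_zpowers _), rfl⟩
  obtain ⟨N, hN, hNodd, hcomm⟩ := Cfsg.Agent.S0215.result (Sylow.ofCard _ hcard) z hz.1 hzS
    (fun g hg => huniq _ (isE_of_isMem_of_mem h (hz.isMem.conj g)
      (h.le (Subgroup.map_subtype_le _ hg))))
  rcases hN.eq_bot_or_eq_top with rfl | rfl
  · refine h.ne_top ((Subgroup.eq_top_iff' B).mpr fun g => IsE.mem_of_conj_mem h hz ?_)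
    have h1 := Subgroup.mem_bot.mp (hcomm g)
    rw [mul_inv_eq_one, mul_inv_eq_iff_eq_mul] at h1
    rw [mul_assoc, h1, inv_mul_cancel_left]
    exact h.le hz.2.1
  · rw [Subgroup.card_top] at hNodd
    have h2 : 2 ∣ Nat.card G := hz.1 ▸ orderOf_dvd_natCard z
    exact Nat.not_even_iff_odd.mpr hNodd (even_iff_two_dvd.mpr h2)

theorem regularOff_of_simple [IsSimpleGroup G] (h : NilSplit B U) :
    IsStronglyEmbedded B ∧ IsPGroup 2 U ∧ CfsgLib.StrongEmb.IsRegularOff B U :=
  regular_of_no_bad h (hasTwo_of_simple h) fun t g ht htB hg => by_contra fun hgB =>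
    no_bad h (hasTwo_of_simple h) t ⟨ht, htB, (g : G ⧸ B), fun e => hgB (mk_eq_base_iff.mp e),
      smul_mk_eq_iff.mpr hg⟩

end CfsgLib.RankOneBN.Nil
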