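import Cfsg.Agent.RankOneBN.Nil.Setting
import Cfsg.Agent.StrongEmb.NoOdd
import Cfsg.Agent.StrongEmb.Line
import Cfsg.Agent.StrongEmb.Quotient
import Cfsg.Agent.StrongEmb.RankOneBridge
import Cfsg.Agent.RankOne.QTwoGroup.Main

/-!
If no involution of `B` fixes a second coset, then `B` is strongly embedded and `U` is a 2-group,
regular off `B`.
-/

set_option autoImplicit false
set_option linter.style.haveILetI false

namespace CfsgLib.RankOneBN.Nil

open Cfsg CfsgLib.StronglyEmbedded CfsgLib.StrongEmb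

universe v

variable {G : Type v} [Group G] [Finite G] {B U : Subgroup G} (h : NilSplit B U)

/-- Two central involutions. -/
def HasTwo (U : Subgroup G) : Prop := ∃ e e' : G, IsE U e ∧ IsE U e' ∧ e ≠ e'

include h

theorem stronglyEmbedded_of_no_bad
    (hno : ∀ t g : G, orderOf t = 2 → t ∈ B → g⁻¹ * t * g ∈ B → g ∈ B) :
    IsStronglyEmbedded B := by
  obtain ⟨e, he⟩ := exists_isE h
  refine intro_of_conj_mem h.ne_top (even_card_of_mem he.1 (h.le he.2.1)) fun t g ht htB hg => ?_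
  exact inv_mem_iff.mp (hno t g⁻¹ ht htB (by rwa [inv_inv]))

theorem isE_of_involution (hSE : IsStronglyEmbedded B) {t : G} (ht : orderOf t = 2) (htB : t ∈ B) :
    IsE U t := by
  obtain ⟨e, he⟩ := exists_isE h
  obtain ⟨g, hg⟩ := isConj_iff.mp (isConj_involutions hSE he.1 ht)
  exact isE_of_isMem_of_mem h (hg ▸ he.isMem.conj g) htB

theorem involCount_eq (hSE : IsStronglyEmbedded B) :
    involCount B = Nat.card {e : G // IsE U e} :=
  Nat.card_congr
    { toFun := fun t => ⟨t.1, isE_of_involution h hSE t.2.1 t.2.2⟩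
      invFun := fun e => ⟨e.1, e.2.1, h.le e.2.2.1⟩
      left_inv := fun _ => rfl
      right_inv := fun _ => rfl }

/-- An element of prime power order for a prime dividing the number of central involutions is
trivial. -/
theorem eq_one_of_dvd_count (hSE : IsStronglyEmbedded B) (htwo : HasTwo U) {p : ℕ} (hp : p.Prime)
    (hpk : p ∣ involCount B) {x : G} (hx : x ∈ U) {k : ℕ} (hk : x ^ p ^ k = 1) : x = 1 := by
  obtain ⟨e, e', he, he', hne⟩ := htwo
  have h2 : RankTwo G := ⟨e, e', he.1, he'.1, hne, he'.2.2 e he.2.1⟩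
  have hcomm : InvolutionsCommute B := fun s t hs ht hsB htB =>
    (isE_of_involution h hSE ht htB).2.2 s (isE_of_involution h hSE hs hsB).2.1
  have hnd := ((noOddTransitive B hSE h2 h.core
    (fun q hq hqk => commuteNoOdd B hSE h2 h.core hcomm q hq hqk)).2 p hp hpk).1
  have hfix : ∀ c : G ⧸ B, c ≠ ((1 : G) : G ⧸ B) → x • c = c := fun c hc => by
    have hrel : (U ⊓ MulAction.stabilizer G c).relIndex U = B.index - 1 := by
      have e1 := Subgroup.card_mul_index ((U ⊓ MulAction.stabilizer G c).subgroupOf U)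
      rw [Nat.card_congr (Subgroup.subgroupOfEquivOfLe inf_le_left).toEquiv,
        index_sub_one h hc, mul_comm (B.index - 1)] at e1
      exact Nat.eq_of_mul_eq_mul_left Nat.card_pos e1
    exact (mem_of_not_dvd_relIndex (H := U ⊓ MulAction.stabilizer G c) h.nilp hp (by rwa [hrel]) hx hk).2
  refine Subgroup.mem_bot.mp (h.core ▸ ?_)
  show ∀ b : G, b * x * b⁻¹ ∈ B
  intro b
  by_cases hb : b⁻¹ ∈ B
  · exact mul_mem (mul_mem (inv_mem_iff.mp hb) (h.le hx)) hb
  · have := smul_mk_eq_iff.mp (hfix (b⁻¹ : G) (fun e => hb (mk_eq_base_iff.mp e)))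
    rwa [inv_inv] at this

/-- An element of prime power order of `U` fixing a coset swapped with the base by `t` is carried
by `t` into `U`. -/
theorem swap_mem (hSE : IsStronglyEmbedded B) (htwo : HasTwo U) {t : G} (ht : orderOf t = 2)
    (htB : t ∉ B) {p k : ℕ} (hp : p.Prime) {x : G} (hxU : x ∈ U) (hk : x ^ p ^ k = 1)
    (hxb : x • (t : G ⧸ B) = t) : t⁻¹ * x * t ∈ U := by
  classical
  rcases eq_or_ne x 1 with rfl | hx1
  · simp
  have hpk : ¬ p ∣ Nat.card {e : G // IsE U e} := fun hd =>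
    hx1 (eq_one_of_dvd_count h hSE htwo hp (by rwa [involCount_eq h hSE]) hxU hk)
  set y := t⁻¹ * x * t with hy
  have hyB : y ∈ B := smul_mk_eq_iff.mp hxb
  have hyk : y ^ p ^ k = 1 := by
    have := conj_pow (a := t⁻¹) (b := x) (i := p ^ k)
    rw [inv_inv] at this
    rw [hy, this, hk]; simp
  let φ : {e : G // IsE U e} → {e : G // IsE U e} := fun e => ⟨y * e.1 * y⁻¹, IsE.conj h hyB e.2⟩
  let σ : Equiv.Perm {e : G // IsE U e} :=
    { toFun := φ
      invFun := fun e => ⟨y⁻¹ * e.1 * y⁻¹⁻¹, IsE.conj h (inv_mem hyB) e.2⟩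
      left_inv := fun e => Subtype.ext (by simp [φ, mul_assoc])
      right_inv := fun e => Subtype.ext (by simp [φ, mul_assoc]) }
  have hσn : ∀ n : ℕ, ∀ e, ((σ ^ n) e).1 = y ^ n * e.1 * (y ^ n)⁻¹ := by
    intro n
    induction n with
    | zero => intro e; simp
    | succ n ih =>
      intro e
      rw [pow_succ', Equiv.Perm.mul_apply]
      show y * ((σ ^ n) e).1 * y⁻¹ = _
      rw [ih, pow_succ']; group
  haveI : Fintype {e : G // IsE U e} := Fintype.ofFinite _
  haveI := Fact.mk hp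
  obtain ⟨⟨e₁, he₁⟩, hfix⟩ := Equiv.Perm.exists_fixed_point_of_prime
    (α := {e : G // IsE U e}) (p := p) (n := k) (by rwa [← Nat.card_eq_fintype_card])
    (σ := σ) (Equiv.ext fun e => Subtype.ext (by simp [hσn, hyk]))
  have hfix' : y * e₁ * y⁻¹ = e₁ := congrArg Subtype.val hfix
  set w := t * e₁ * t⁻¹ with hw
  have hxw : Commute x w := by
    have := (commute_iff_conj_eq.mpr hfix').map (MulAut.conj t).toMonoidHom
    simpa [hy, hw, mul_assoc] using this
  obtain ⟨e₀, -, he₀, -, -⟩ := htwo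
  have hwc : w • (t : G ⧸ B) = t := smul_mk_eq_iff.mpr (by
    rw [hw, show t⁻¹ * (t * e₁ * t⁻¹) * t = e₁ by group]; exact h.le he₁.2.1)
  have ha : e₀ • ((1 : G) : G ⧸ B) = ((1 : G) : G ⧸ B) := smul_base_iff.mpr (h.le he₀.2.1)
  obtain ⟨g, hg, hge⟩ := exists_conj_member h he₀.isMem (he₁.isMem.conj t) ha hwc
    (fun e => htB (mk_eq_base_iff.mp e.symm))
  have hgb := smul_centre h he₀.isMem (he₁.isMem.conj t) ha hwc hge
  have hgx : Commute g x := by
    obtain ⟨i, rfl⟩ := Subgroup.mem_zpowers_iff.mp hg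
    exact (((he₀.2.2 x hxU).mul_right hxw).zpow_right i).symm
  rw [MulAction.Quotient.smul_coe, smul_eq_mul, mul_one, QuotientGroup.eq] at hgb
  have hxg : g⁻¹ * x * g = x := by rw [mul_assoc, ← hgx.eq, inv_mul_cancel_left]
  have := inv_conj_mem h hgb (hxg.symm ▸ hxU : g⁻¹ * x * g ∈ U)
  rwa [show (g⁻¹ * t)⁻¹ * (g⁻¹ * x * g) * (g⁻¹ * t) = t⁻¹ * x * t by group] at this

omit h in
theorem card_inf_stab_eq {c d : G ⧸ B} {u : G} (hu : u ∈ U) (hcd : u • c = d) :
    Nat.card ↥(U ⊓ MulAction.stabilizer G c) = Nat.card ↥(U ⊓ MulAction.stabilizer G d) :=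
  Nat.card_congr
    { toFun := fun x => ⟨u * x.1 * u⁻¹, U.mul_mem (U.mul_mem hu x.2.1) (U.inv_mem hu), by
        show (u * x.1 * u⁻¹) • d = d
        rw [mul_smul, mul_smul, inv_smul_eq_iff.mpr hcd.symm, x.2.2, hcd]⟩
      invFun := fun x => ⟨u⁻¹ * x.1 * u, U.mul_mem (U.mul_mem (U.inv_mem hu) x.2.1) hu, by
        show (u⁻¹ * x.1 * u) • c = c
        rw [mul_smul, mul_smul, hcd, x.2.2, inv_smul_eq_iff.mpr hcd.symm]⟩
      left_inv := fun x => Subtype.ext (by simp [mul_assoc])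
      right_inv := fun x => Subtype.ext (by simp [mul_assoc]) }

theorem card_stab_const {c d : G ⧸ B} (hc : c ≠ ((1 : G) : G ⧸ B))
    (hd : d ≠ ((1 : G) : G ⧸ B)) :
    Nat.card ↥(U ⊓ MulAction.stabilizer G c) = Nat.card ↥(U ⊓ MulAction.stabilizer G d) := by
  obtain ⟨u, hu, hcd⟩ := isPretransitive_off h hc hd
  exact card_inf_stab_eq hu hcd

/-- Without bad involutions `U` is a 2-group, regular off `B`. -/
theorem regular_of_no_bad (htwo : HasTwo U)
    (hno : ∀ t g : G, orderOf t = 2 → t ∈ B → g⁻¹ * t * g ∈ B → g ∈ B) :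
    IsStronglyEmbedded B ∧ IsPGroup 2 U ∧ IsRegularOff B U := by
  classical
  have hSE := stronglyEmbedded_of_no_bad h hno
  refine ⟨hSE, ?_⟩
  obtain ⟨t, htB, ht⟩ := StronglyEmbedded.exists_involution_not_mem hSE
  set a : G ⧸ B := ((1 : G) : G ⧸ B) with ha
  have hbne : (t : G ⧸ B) ≠ a := fun e => htB (mk_eq_base_iff.mp e)
  have htab : t • a = (t : G ⧸ B) := by
    rw [ha, MulAction.Quotient.smul_coe, smul_eq_mul, mul_one]
  set V := U ⊓ MulAction.stabilizer G (t : G ⧸ B) with hV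
  have hVU : V ≤ U := inf_le_left
  have hVB : V ≤ B := hVU.trans h.le
  have htt : t⁻¹ = t := inv_eq_self ht
  -- `t` normalises `V`
  have htV : ∀ x ∈ V, t * x * t⁻¹ ∈ V := by
    have hle : V ≤ V.comap (MulAut.conj t).toMonoidHom := by
      refine le_of_primePow_mem fun x hx p k hp hk => ?_
      have h1 := swap_mem h hSE htwo ht htB hp hx.1 hk hx.2
      have h2 : t * x * t⁻¹ ∈ V := by
        refine ⟨by rw [htt]; rwa [htt] at h1, ?_⟩
        show (t * x * t⁻¹) • (t : G ⧸ B) = t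
        rw [mul_smul, mul_smul, inv_smul_eq_iff.mpr htab.symm, smul_base_iff.mpr (h.le hx.1), htab]
      simpa using h2
    intro x hx
    simpa using hle hx
  set N := Subgroup.normalizer (V : Set G) with hN
  have htN : t ∈ N := NoOdd.mem_normalizer_of_invariant htV
  have hEN : ∀ e, IsE U e → e ∈ N := fun e he => NoOdd.mem_normalizer_of_invariant fun x hx => by
    rwa [← (he.2.2 x hx.1).eq, mul_inv_cancel_right]
  -- the odd order of `V`
  have hVodd : Odd (Nat.card V) := by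
    rw [← Nat.not_even_iff_odd]
    intro hev
    obtain ⟨s, hs, hs2⟩ := exists_involution_of_even hev
    exact htB (hno s t hs2 (hVB hs) (smul_mk_eq_iff.mp hs.2))
  -- every `U`-stabiliser of a coset fixed by `V` equals `V`
  have hVeq : ∀ c, c ≠ a → V ≤ MulAction.stabilizer G c → V = U ⊓ MulAction.stabilizer G c :=
    fun c hc hle => Subgroup.eq_of_le_of_card_ge (le_inf hVU hle) (card_stab_const h hc hbne).le
  set B₁ := B.subgroupOf N
  set V₁ := V.subgroupOf N with hV₁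
  set U₁ := U.subgroupOf N
  haveI hV₁n : V₁.Normal := Subgroup.normal_in_normalizer
  have hNfix : ∀ g ∈ N, V ≤ MulAction.stabilizer G (g : G ⧸ B) := fun g hg x hx => by
    refine smul_mk_eq_iff.mpr (hVB ?_)
    exact (Subgroup.mem_normalizer_iff''.mp hg x).mp hx
  obtain ⟨e, e', he, he', hne⟩ := htwo
  have hSE₁ : IsStronglyEmbedded B₁ :=
    StronglyEmbedded.subgroupOf hSE (fun hle => htB (hle htN)) he.1 (h.le he.2.1) (hEN e he)
  have hV₁B : V₁ ≤ B₁ := fun x hx => hVB hx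
  have hV₁odd : Odd (Nat.card V₁) := by
    rwa [hV₁, Nat.card_congr (Subgroup.subgroupOfEquivOfLe Subgroup.le_normalizer).toEquiv]
  have hSE₂ := stronglyEmbedded_quotient (C := V₁) hSE₁ hV₁B hV₁odd
  set π := QuotientGroup.mk' V₁ with hπ
  have hπs : Function.Surjective π := QuotientGroup.mk'_surjective _
  have hnotmem : ∀ g : N, π g ∉ B₁.map π → (g : G) ∉ B := fun g hg hgB =>
    hg (Subgroup.mem_map_of_mem _ hgB)
  have hQ : IsRegularOff (B₁.map π) (U₁.map π) := by
    refine ⟨Subgroup.map_mono fun x hx => h.le hx, ⟨?_⟩, ?_, ?_⟩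
    · rintro ⟨_, y, hy, rfl⟩ hyU ⟨_, b, hb, rfl⟩
      obtain ⟨y', hy', e1⟩ := hyU
      refine ⟨b * y' * b⁻¹, h.conj_mem _ hb _ hy', ?_⟩
      simp [e1]
    · intro g₁ g₂ hg₁ hg₂
      obtain ⟨g₁, rfl⟩ := hπs g₁
      obtain ⟨g₂, rfl⟩ := hπs g₂
      obtain ⟨u, hu, hub⟩ := h.trans g₁ g₂ (hnotmem g₁ hg₁) (hnotmem g₂ hg₂)
      have hc : u • ((g₁ : G) : G ⧸ B) = ((g₂ : G) : G ⧸ B) := by
        rw [MulAction.Quotient.smul_coe, smul_eq_mul, QuotientGroup.eq]
        simpa [mul_assoc] using inv_mem hub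
      have hne1 : ((g₁ : G) : G ⧸ B) ≠ a := fun e => hnotmem g₁ hg₁ (mk_eq_base_iff.mp e)
      have hne2 : ((g₂ : G) : G ⧸ B) ≠ a := fun e => hnotmem g₂ hg₂ (mk_eq_base_iff.mp e)
      have huN : u ∈ N := NoOdd.mem_normalizer_of_invariant fun x hx => by
        rw [hVeq _ hne2 (hNfix _ g₂.2)]
        refine ⟨U.mul_mem (U.mul_mem hu (hVU hx)) (U.inv_mem hu), ?_⟩
        show (u * x * u⁻¹) • ((g₂ : G) : G ⧸ B) = _
        rw [mul_smul, mul_smul, inv_smul_eq_iff.mpr hc.symm,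
          MulAction.mem_stabilizer_iff.mp (hNfix _ g₁.2 hx), hc]
      refine ⟨π ⟨u, huN⟩, Subgroup.mem_map_of_mem _ hu, ?_⟩
      rw [← map_inv, ← map_mul, ← map_mul]
      exact Subgroup.mem_map_of_mem _ hub
    · intro g hg q hq hqm
      obtain ⟨g, rfl⟩ := hπs g
      obtain ⟨q, hqU, rfl⟩ := hq
      rw [← map_inv, ← map_mul, ← map_mul] at hqm
      have hm : (g : G)⁻¹ * ((q : G) * g) ∈ B := mem_of_mk_mem_map hV₁B hqm
      have hgne : ((g : G) : G ⧸ B) ≠ a := fun e => hnotmem g hg (mk_eq_base_iff.mp e)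
      have hqV : (q : G) ∈ V := by
        rw [hVeq _ hgne (hNfix _ g.2)]
        exact ⟨hqU, smul_mk_eq_iff.mpr (by simpa [mul_assoc] using hm)⟩
      exact (QuotientGroup.eq_one_iff q).mpr hqV
  have ht₂ : orderOf (π ⟨t, htN⟩) = 2 :=
    orderOf_mk_two hV₁odd (by rw [← Subgroup.orderOf_coe]; exact ht)
  have ht₂B : π ⟨t, htN⟩ ∉ B₁.map π := fun hm => htB (mem_of_mk_mem_map hV₁B hm)
  have hS := isRankOneSetup hSE₂ hQ ht₂ ht₂B
  have hpair : ∃ x y : ↥N ⧸ V₁, x ≠ 1 ∧ y ≠ 1 ∧ x ≠ y ∧ x * x = 1 ∧ y * y = 1 ∧ x * y = y * x := by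
    have o1 := orderOf_mk_two hV₁odd (t := ⟨e, hEN e he⟩) (by rw [← Subgroup.orderOf_coe]; exact he.1)
    have o2 := orderOf_mk_two hV₁odd (t := ⟨e', hEN e' he'⟩)
      (by rw [← Subgroup.orderOf_coe]; exact he'.1)
    refine ⟨_, _, ne_one_of_orderOf_two o1, ne_one_of_orderOf_two o2, fun heq => ?_,
      mul_self_eq_one o1, mul_self_eq_one o2, ?_⟩
    · rw [QuotientGroup.mk'_apply, QuotientGroup.mk'_apply, QuotientGroup.eq] at heq
      have h2 : orderOf (e⁻¹ * e') = 2 := by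
        have hc : Commute e⁻¹ e' := (he'.2.2 e he.2.1).inv_left
        refine orderOf_two_iff.mpr ⟨?_, fun h1 => hne (inv_mul_eq_one.mp h1)⟩
        rw [hc.symm.mul_mul_mul_comm e⁻¹ e', mul_self_eq_one he'.1, mul_one, inv_eq_self he.1,
          mul_self_eq_one he.1]
      exact Nat.not_even_iff_odd.mpr hVodd (even_card_of_mem h2 heq)
    · rw [← map_mul, ← map_mul]
      exact congrArg _ (Subtype.ext (he'.2.2 e he.2.1).eq)
  have hQp := CfsgLib.RankOneSetup.isPGroup_Q hS hpair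
  have hpow : ∀ x ∈ U, x ∈ N → ∃ k : ℕ, x ^ 2 ^ k ∈ V := fun x hxU hxN => by
    obtain ⟨k, hk⟩ := hQp ⟨π ⟨x, hxN⟩, Subgroup.mem_map_of_mem _ hxU⟩
    refine ⟨k, ?_⟩
    have := congrArg Subtype.val hk
    simp only [SubmonoidClass.coe_pow, OneMemClass.coe_one, hπ, QuotientGroup.mk'_apply,
      ← QuotientGroup.mk_pow, QuotientGroup.eq_one_iff] at this
    exact this
  -- `U` is generated by `V` and its 2-elements
  have hoddU : ∀ x ∈ U, Odd (orderOf x) → x ∈ V := by
    haveI := h.nilp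
    haveI : Fact (Nat.Prime 2) := ⟨Nat.prime_two⟩
    obtain ⟨S⟩ := (Sylow.nonempty : Nonempty (Sylow 2 U))
    set V₂ := V.subgroupOf U with hV₂
    haveI : (S : Subgroup U).Normal :=
      (Group.isNilpotent_of_finite_tfae (G := U)).out 0 3 rfl rfl |>.mp h.nilp 2 inferInstance S
    set M := V₂ ⊔ (S : Subgroup U)
    -- odd elements of `M` lie in `V₂`
    have hM : ∀ x ∈ M, Odd (orderOf x) → x ∈ V₂ := by
      intro x hx hodd
      obtain ⟨v, hv, s, hs, rfl⟩ := Subgroup.mem_sup_of_normal_right.mp hx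
      have hvo : Odd (orderOf v) := by
        rw [← Subgroup.orderOf_coe]
        exact hVodd.of_dvd_nat (Subgroup.orderOf_coe (⟨_, hv⟩ : V) ▸ orderOf_dvd_natCard _)
      obtain ⟨i, hi⟩ := IsPGroup.iff_orderOf.mp S.2 ⟨s, hs⟩
      rw [Subgroup.orderOf_mk] at hi
      have hcop : (orderOf v).Coprime (orderOf s) :=
        hi ▸ (Nat.coprime_two_right.mpr hvo).pow_right i
      have hc : Commute v s := by
        have := commute_of_coprime h.nilp v.2 s.2 (by rwa [Subgroup.orderOf_coe, Subgroup.orderOf_coe])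
        exact Subtype.ext this.eq
      have hs1 : orderOf s = 1 := by
        have e1 := hc.orderOf_mul_eq_mul_orderOf_of_coprime hcop
        rcases i with _ | i
        · simpa using hi
        · exfalso
          rw [e1, hi, pow_succ] at hodd
          exact Nat.not_even_iff_odd.mpr hodd (Even.mul_left (Even.mul_left even_two _) _)
      rw [orderOf_eq_one_iff.mp hs1, mul_one]
      exact hv
    have hMtop : M = ⊤ := by
      by_contra hlt
      obtain ⟨x, hxn, hxM⟩ := SetLike.exists_of_lt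
        (Group.normalizerCondition_of_isNilpotent M (lt_top_iff_ne_top.mpr hlt))
      have hxV : (x : G) ∈ N := NoOdd.mem_normalizer_of_invariant fun y hy => by
        have hy2 : (⟨y, hVU hy⟩ : U) ∈ V₂ := hy
        have hm : x * ⟨y, hVU hy⟩ * x⁻¹ ∈ M :=
          (Subgroup.mem_normalizer_iff.mp hxn _).mp (le_sup_left (b := (S : Subgroup U)) hy2)
        refine (hM _ hm ?_ : x * ⟨y, hVU hy⟩ * x⁻¹ ∈ V₂)
        rw [StronglyEmbedded.orderOf_conj, Subgroup.orderOf_mk]
        exact hVodd.of_dvd_nat (Subgroup.orderOf_coe (⟨_, hy⟩ : V) ▸ orderOf_dvd_natCard _)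
      obtain ⟨k, hk⟩ := hpow x x.2 hxV
      have hxk : x ^ 2 ^ k ∈ M := le_sup_left (b := (S : Subgroup U))
        (Subgroup.mem_subgroupOf.mpr (by simpa using hk) : x ^ 2 ^ k ∈ V₂)
      -- `M` has odd index
      have hMi : Odd M.index := (Nat.not_even_iff_odd.mp fun he =>
        S.not_dvd_index ((even_iff_two_dvd.mp he).trans (Subgroup.index_dvd_of_le le_sup_right)))
      refine hxM (mem_of_pow_mem_odd_index (U := U) h.nilp hxk hMi)
    intro x hx hodd
    exact hM ⟨x, hx⟩ (hMtop ▸ Subgroup.mem_top _) (by rwa [Subgroup.orderOf_mk])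
  have hodd1 : ∀ x ∈ U, Odd (orderOf x) → x = 1 := by
    intro x hx hodd
    refine Subgroup.mem_bot.mp (h.core ▸ ?_)
    show ∀ b : G, b * x * b⁻¹ ∈ B
    intro b
    by_cases hb : b⁻¹ ∈ B
    · exact mul_mem (mul_mem (inv_mem_iff.mp hb) (h.le hx)) hb
    · obtain ⟨u, hu, hm⟩ := h.trans t b⁻¹ htB hb
      rw [inv_inv] at hm
      have hy : u⁻¹ * x * u ∈ V :=
        hoddU _ (mul_mem (mul_mem (inv_mem hu) hx) hu) (by rwa [orderOf_conj_inv])
      rw [show b * x * b⁻¹ = b * (u * t) * (t⁻¹ * (u⁻¹ * x * u) * t) * (b * (u * t))⁻¹ by group]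
      exact mul_mem (mul_mem hm (smul_mk_eq_iff.mp hy.2)) (inv_mem hm)
  have hVbot : V = ⊥ := (Subgroup.eq_bot_iff_forall V).mpr fun x hx => hodd1 x hx.1
    (hVodd.of_dvd_nat (Subgroup.orderOf_coe (⟨_, hx⟩ : V) ▸ orderOf_dvd_natCard _))
  refine ⟨isPGroup_two_of_odd_eq_one hodd1, h.le, ⟨fun y hy b => ?_⟩, h.trans, fun g hg q hq hm => ?_⟩
  · simpa [Subgroup.mem_subgroupOf] using h.conj_mem b b.2 y hy
  · have hne' : (g : G ⧸ B) ≠ a := fun e => hg (mk_eq_base_iff.mp e)
    have hle : V ≤ MulAction.stabilizer G (g : G ⧸ B) := by rw [hVbot]; exact bot_le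
    have : q ∈ V := by
      rw [hVeq _ hne' hle]
      exact ⟨hq, smul_mk_eq_iff.mpr (by simpa [mul_assoc] using hm)⟩
    rwa [hVbot, Subgroup.mem_bot] at this

end CfsgLib.RankOneBN.Nil
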