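import Cfsg.Agent.RankOneBN.Nil.Count
import Cfsg.Agent.Coprime.Glauberman
import Mathlib.GroupTheory.SchurZassenhaus

/-!
Tools for the structure of the 2-group `U`: commutators with the elements of a stabiliser, and an odd
group fixing two cosets which is transitive on the central involutions.
-/

set_option autoImplicit false
set_option linter.style.haveILetI false

namespace CfsgLib.RankOneBN.Nil

open Cfsg CfsgLib.StronglyEmbedded

universe v

variable {G : Type v} [Group G] {B U : Subgroup G}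

/-- The commutator `g r g⁻¹ r⁻¹`. -/
def comm (g r : G) : G := g * r * g⁻¹ * r⁻¹

theorem comm_mul_eq (g g' r : G) : comm (g * g') r = g * comm g' r * g⁻¹ * comm g r := by
  simp only [comm]; group

theorem comm_conj (k g r : G) : comm (k * g * k⁻¹) (k * r * k⁻¹) = k * comm g r * k⁻¹ := by
  simp only [comm]; group

theorem comm_eq_one_iff {g r : G} : comm g r = 1 ↔ Commute g r := by
  rw [comm, mul_inv_eq_one, mul_inv_eq_iff_eq_mul]
  rfl

theorem omega_sq {x : G} (hx : x ∈ omegaZ U) : x * x = 1 := hx.1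

theorem omega_mem {x : G} (hx : x ∈ omegaZ U) : x ∈ U := hx.2.1

theorem omega_comm {x g : G} (hx : x ∈ omegaZ U) (hg : g ∈ U) : Commute g x := hx.2.2 g hg

theorem omega_conj_eq {x g : G} (hx : x ∈ omegaZ U) (hg : g ∈ U) : g * x * g⁻¹ = x := by
  rw [(omega_comm hx hg).eq, mul_inv_cancel_right]

/-- The elements of `U` whose commutators with `R` are central of order at most 2. -/
def pSub (R U : Subgroup G) : Subgroup G where
  carrier := {g | g ∈ U ∧ ∀ r ∈ R, comm g r ∈ omegaZ U}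
  one_mem' := ⟨one_mem U, fun r _ => by simp [comm]⟩
  mul_mem' := fun {x y} hx hy => ⟨mul_mem hx.1 hy.1, fun r hr => by
    rw [comm_mul_eq, omega_conj_eq (hy.2 r hr) hx.1]
    exact mul_mem (hy.2 r hr) (hx.2 r hr)⟩
  inv_mem' := fun {x} hx => ⟨inv_mem hx.1, fun r hr => by
    have e1 : comm x⁻¹ r = x⁻¹ * (comm x r)⁻¹ * x⁻¹⁻¹ := by simp only [comm]; group
    rw [e1, omega_conj_eq (inv_mem (hx.2 r hr)) (inv_mem hx.1)]
    exact inv_mem (hx.2 r hr)⟩

/-- The products of an element of `omegaZ U` and an element of `R`. -/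
def withE (R : Subgroup G) (hRU : R ≤ U) : Subgroup G where
  carrier := {x | ∃ e ∈ omegaZ U, ∃ r ∈ R, x = e * r}
  one_mem' := ⟨1, one_mem _, 1, one_mem _, (one_mul 1).symm⟩
  mul_mem' := by
    rintro _ _ ⟨e, he, r, hr, rfl⟩ ⟨e', he', r', hr', rfl⟩
    exact ⟨e * e', mul_mem he he', r * r', mul_mem hr hr',
      (omega_comm he' (hRU hr)).mul_mul_mul_comm e r'⟩
  inv_mem' := by
    rintro _ ⟨e, he, r, hr, rfl⟩
    exact ⟨e⁻¹, inv_mem he, r⁻¹, inv_mem hr, by
      rw [mul_inv_rev, (omega_comm (inv_mem he) (hRU (inv_mem hr))).eq]⟩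

variable [Finite G]

/-- A subgroup carried onto `E` by a map which is multiplicative on it. -/
theorem card_eq_of_map {P K₀ E : Subgroup G} (ψ : G → G) (hmem : ∀ x ∈ P, ψ x ∈ E)
    (hmul : ∀ x ∈ P, ∀ y ∈ P, ψ (x * y) = ψ x * ψ y) (honto : ∀ e ∈ E, ∃ x ∈ P, ψ x = e)
    (hker : ∀ x ∈ P, ψ x = 1 ↔ x ∈ K₀) (hK : K₀ ≤ P) :
    Nat.card P = Nat.card K₀ * Nat.card E := by
  let f : P →* E := MonoidHom.mk' (fun x => ⟨ψ x.1, hmem x.1 x.2⟩)
    (fun x y => Subtype.ext (hmul x.1 x.2 y.1 y.2))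
  have hs : Function.Surjective f := fun e => by
    obtain ⟨x, hx, hxe⟩ := honto e.1 e.2
    exact ⟨⟨x, hx⟩, Subtype.ext hxe⟩
  have hk : f.ker = K₀.subgroupOf P := by
    ext x
    rw [MonoidHom.mem_ker, Subgroup.mem_subgroupOf, ← hker x.1 x.2]
    exact ⟨fun e => congrArg Subtype.val e, fun e => Subtype.ext e⟩
  rw [← Subgroup.card_mul_index f.ker, Subgroup.index_ker, MonoidHom.range_eq_top_of_surjective f hs,
    Subgroup.card_top, hk, Nat.card_congr (Subgroup.subgroupOfEquivOfLe hK).toEquiv]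

/-- Normalizer condition inside a 2-group. -/
theorem exists_normalizer_step {X Y : Subgroup G} (hY : IsPGroup 2 Y) (hX : X ≤ Y) (hne : X ≠ Y) :
    ∃ g ∈ Y, g ∉ X ∧ ∀ x ∈ X, g * x * g⁻¹ ∈ X := by
  haveI : Fact (Nat.Prime 2) := ⟨Nat.prime_two⟩
  haveI := hY.isNilpotent
  have hlt : X.subgroupOf Y < ⊤ := lt_top_iff_ne_top.mpr fun e =>
    hne (le_antisymm hX (Subgroup.subgroupOf_eq_top.mp e))
  obtain ⟨g, hg, hgX⟩ := SetLike.exists_of_lt (Group.normalizerCondition_of_isNilpotent _ hlt)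
  exact ⟨g, g.2, hgX, fun x hx => (Subgroup.mem_normalizer_iff.mp hg ⟨x, hX hx⟩).mp hx⟩

variable (h : NilSplit B U)

include h

theorem omega_B_conj {x e : G} (hx : x ∈ B) (he : e ∈ omegaZ U) : x * e * x⁻¹ ∈ omegaZ U := by
  rcases eq_or_ne e 1 with rfl | h1
  · simp
  · exact (isE_iff.mp (IsE.conj h hx (isE_iff.mpr ⟨he, h1⟩))).1

theorem omega_fix {e : G} (he : e ∈ omegaZ U) {c : G ⧸ B} (hc : c ≠ ((1 : G) : G ⧸ B))
    (hec : e • c = c) : e = 1 := by
  by_contra h1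
  exact hc (centre_unique h (isE_iff.mpr ⟨he, h1⟩).isMem hec (smul_base_iff.mpr (h.le he.2.1)))

omit [Finite G] in
theorem odd_relIndex_le {C : Subgroup G} (hC : C ≤ B) : Odd (U.relIndex C) := by
  haveI : (U.subgroupOf B).Normal := ⟨fun y hy x => by
    simpa [Subgroup.mem_subgroupOf] using h.conj_mem x x.2 y hy⟩
  refine h.odd_rel.of_dvd_nat ?_
  rw [← Subgroup.relIndex_subgroupOf (L := B) hC]
  exact Subgroup.relIndex_dvd_index_of_normal _ _

omit [Finite G] in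
theorem index_U_odd : Odd U.index := by
  rw [← Subgroup.relIndex_mul_index h.le]
  exact h.odd_rel.mul h.odd_index

/-- An odd group centralising the 2-group fixing the base and `b`, transitive on the central
involutions. -/
theorem exists_odd_transitive (hU2 : IsPGroup 2 U) (htwo : HasTwo U) {b : G ⧸ B}
    (hb : b ≠ ((1 : G) : G ⧸ B)) {u : G} (hu : u ∈ U ⊓ MulAction.stabilizer G b)
    (hu2 : orderOf u = 2) :
    ∃ K : Subgroup G, K ≤ B ∧ Odd (Nat.card K) ∧
      (∀ k ∈ K, ∀ r ∈ U ⊓ MulAction.stabilizer G b, Commute r k) ∧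
      ∀ e e', IsE U e → IsE U e' → ∃ k ∈ K, k * e * k⁻¹ = e' := by
  classical
  haveI : Fact (Nat.Prime 2) := ⟨Nat.prime_two⟩
  set R := U ⊓ MulAction.stabilizer G b with hR
  have hRpow : ∀ r ∈ R, ∃ k : ℕ, r ^ 2 ^ k = 1 := fun r hr => by
    obtain ⟨k, hk⟩ := hU2 ⟨r, hr.1⟩
    exact ⟨k, by simpa using congrArg Subtype.val hk⟩
  have hRB : R ≤ B := inf_le_left.trans h.le
  have hbad : IsBad B u := ⟨hu2, hRB hu, b, hb, hu.2⟩
  obtain ⟨-, horb⟩ := fix_structure h hU2 htwo hbad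
  set C := B ⊓ MulAction.stabilizer G b ⊓ Subgroup.centralizer (R : Set G) with hC
  have hCR : ∀ c ∈ C, ∀ r ∈ R, Commute r c := fun c hc r hr =>
    Subgroup.mem_centralizer_iff.mp hc.2 r hr
  have htr : ∀ e e', IsE U e → IsE U e' → ∃ c ∈ C, c * e * c⁻¹ = e' := by
    intro e e' he he'
    obtain ⟨x, hxB, hxe, hxR⟩ :=
      exists_commute_conj_IsE h hRpow hRB hb (fun r hr => hr.2) he he'
    have hxb : u • (x • b) = x • b := by rw [smul_smul, (hxR u hu).eq, ← smul_smul, hu.2]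
    have hxne : x • b ≠ ((1 : G) : G ⧸ B) := fun e1 =>
      hb (smul_left_cancel x (e1.trans (smul_base_iff.mpr hxB).symm))
    obtain ⟨e₁, he₁, hxb'⟩ := horb b (x • b) hb hxne hu.2 hxb
    refine ⟨e₁⁻¹ * x, ⟨⟨B.mul_mem (B.inv_mem (h.le he₁.2.1)) hxB, ?_⟩, ?_⟩, ?_⟩
    · show (e₁⁻¹ * x) • b = b
      rw [mul_smul, ← hxb', inv_smul_smul]
    · refine Subgroup.mem_centralizer_iff.mpr fun r hr => ?_
      exact ((omega_comm (inv_mem he₁) (hr : r ∈ R).1).mul_right (hxR r hr)).eq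
    · rw [show e₁⁻¹ * x * e * (e₁⁻¹ * x)⁻¹ = e₁⁻¹ * (x * e * x⁻¹) * e₁⁻¹⁻¹ by group, hxe,
        omega_conj_eq (isE_iff.mp he').1 (inv_mem he₁.2.1)]
  set R₀ := R.subgroupOf C with hR₀
  haveI : R₀.Normal := ⟨fun r hr c => by
    have e1 : (c : G) * r * (c : G)⁻¹ = r := by
      rw [← (hCR c c.2 r hr).eq, mul_inv_cancel_right]
    simpa [hR₀, Subgroup.mem_subgroupOf, e1] using hr⟩
  have hodd : Odd R₀.index := by
    have e1 : R₀ = U.subgroupOf C := by
      ext x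
      exact ⟨fun hx => hx.1, fun hx => ⟨hx, x.2.1.2⟩⟩
    rw [e1]
    exact odd_relIndex_le h (inf_le_left.trans inf_le_left)
  have hcop : Nat.Coprime (Nat.card R₀) R₀.index := by
    have hp : IsPGroup 2 R₀ :=
      (hU2.to_le (inf_le_left : R ≤ U)).comap_of_injective C.subtype C.subtype_injective
    obtain ⟨n, hn⟩ := IsPGroup.iff_card.mp hp
    rw [hn]
    exact (Nat.coprime_two_left.mpr hodd).pow_left n
  obtain ⟨K', hK'⟩ := Subgroup.exists_left_complement'_of_coprime hcop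
  refine ⟨K'.map C.subtype, (Subgroup.map_subtype_le K').trans (inf_le_left.trans inf_le_left), ?_,
    ?_, ?_⟩
  · rw [Subgroup.card_map_of_injective C.subtype_injective, ← hK'.index_eq_card]
    exact hodd
  · rintro _ ⟨k, -, rfl⟩ r hr
    exact hCR k k.2 r hr
  · intro e e' he he'
    obtain ⟨c, hc, hce⟩ := htr e e' he he'
    obtain ⟨⟨k, n⟩, hkn⟩ := hK'.2 ⟨c, hc⟩
    have hkn' : ((k : C) : G) * ((n : C) : G) = c := congrArg Subtype.val hkn
    refine ⟨(k : C), ⟨k, k.2, rfl⟩, ?_⟩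
    rw [← hce, ← hkn', show ((k : C) : G) * ((n : C) : G) * e * (((k : C) : G) * ((n : C) : G))⁻¹ =
      (k : C) * (((n : C) : G) * e * ((n : C) : G)⁻¹) * ((k : C) : G)⁻¹ by group,
      omega_conj_eq (isE_iff.mp he).1 (show ((n : C) : G) ∈ U from n.2.1)]

end CfsgLib.RankOneBN.Nil
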