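import Cfsg.Agent.RankOneBN.Nil.SECase

/-!
`U` is a 2-group: apply the case without bad involutions to the normaliser of the 2-part of the
stabiliser of two cosets, modulo the kernel of its action on the cosets it fixes.
-/

set_option autoImplicit false
set_option linter.style.haveILetI false

namespace CfsgLib.RankOneBN.Nil

open Cfsg CfsgLib.StronglyEmbedded CfsgLib.StrongEmb

universe v

variable {G : Type v} [Group G] [Finite G] {B U : Subgroup G} (h : NilSplit B U)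

include h

/-- A member centred at `c` is reached from a central involution inside the centralizer of a 2-group
fixing both cosets. -/
theorem exists_commute_conj {R : Subgroup G} (hR : ∀ r ∈ R, ∃ k : ℕ, r ^ 2 ^ k = 1) (hRB : R ≤ B)
    {c : G ⧸ B} (hc : c ≠ ((1 : G) : G ⧸ B)) (hRc : ∀ r ∈ R, r • c = c) {e w : G} (he : IsE U e)
    (hw : IsMem U w) (hwc : w • c = c) :
    ∃ x : G, x * e * x⁻¹ = w ∧ x • ((1 : G) : G ⧸ B) = c ∧ ∀ r ∈ R, Commute r x := by
  have ha : e • ((1 : G) : G ⧸ B) = ((1 : G) : G ⧸ B) := smul_base_iff.mpr (h.le he.2.1)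
  obtain ⟨x, hx, hxe⟩ := exists_conj_member h he.isMem hw ha hwc hc.symm
  refine ⟨x, hxe, smul_centre h he.isMem hw ha hwc hxe, fun r hr => ?_⟩
  obtain ⟨k, hk⟩ := hR r hr
  obtain ⟨i, rfl⟩ := Subgroup.mem_zpowers_iff.mp hx
  exact ((commute_of_two h he.isMem ha (smul_base_iff.mpr (hRB hr)) hk).mul_right
    (commute_of_two h hw hwc (hRc r hr) hk)).zpow_right i

/-- The centralizer in `B` of a 2-group fixing two cosets is transitive on the central
involutions. -/
theorem exists_commute_conj_IsE {R : Subgroup G} (hR : ∀ r ∈ R, ∃ k : ℕ, r ^ 2 ^ k = 1)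
    (hRB : R ≤ B) {c : G ⧸ B} (hc : c ≠ ((1 : G) : G ⧸ B)) (hRc : ∀ r ∈ R, r • c = c) {e e' : G}
    (he : IsE U e) (he' : IsE U e') :
    ∃ x ∈ B, x * e * x⁻¹ = e' ∧ ∀ r ∈ R, Commute r x := by
  obtain ⟨w, hw, hwc⟩ := exists_member_at h c
  obtain ⟨x, hx, hxa, hxR⟩ := exists_commute_conj h hR hRB hc hRc he hw hwc
  obtain ⟨y, hy, hya, hyR⟩ := exists_commute_conj h hR hRB hc hRc he' hw hwc
  refine ⟨y⁻¹ * x, smul_base_iff.mp ?_, ?_, fun r hr => ((hyR r hr).inv_right).mul_right (hxR r hr)⟩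
  · rw [mul_smul, hxa, ← hya, inv_smul_smul]
  · rw [show y⁻¹ * x * e * (y⁻¹ * x)⁻¹ = y⁻¹ * (x * e * x⁻¹) * y by group, hx, ← hy]; group

theorem two_of_mem_sup {x : G} (hx : x ∈ B) (h2 : orderOf x = 2) {c : G ⧸ B} (hxc : x • c = c) :
    x ∈ U ⊓ MulAction.stabilizer G c :=
  ⟨involution_mem h hx h2, hxc⟩

/-- `U` is a 2-group. -/
theorem isPGroup_U (htwo : HasTwo U) : IsPGroup 2 U := by
  classical
  by_cases hno : ∀ t g : G, orderOf t = 2 → t ∈ B → g⁻¹ * t * g ∈ B → g ∈ B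
  · exact (regular_of_no_bad h htwo hno).2.1
  push_neg at hno
  obtain ⟨t₀, g₀, ht₀, ht₀B, ht₀g, hg₀⟩ := hno
  set a : G ⧸ B := ((1 : G) : G ⧸ B) with ha
  set b : G ⧸ B := (g₀ : G ⧸ B) with hb
  have hba : b ≠ a := fun e => hg₀ (mk_eq_base_iff.mp e)
  haveI := h.nilp
  haveI : Fact (Nat.Prime 2) := ⟨Nat.prime_two⟩
  obtain ⟨S⟩ := (Sylow.nonempty : Nonempty (Sylow 2 U))
  haveI hSn : (S : Subgroup U).Normal :=
    (Group.isNilpotent_of_finite_tfae (G := U)).out 0 3 rfl rfl |>.mp h.nilp 2 inferInstance S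
  set T : Subgroup G := (S : Subgroup U).map U.subtype with hT
  have hTU : T ≤ U := Subgroup.map_subtype_le _
  have hTp : IsPGroup 2 T := S.2.map _
  have hTmem : ∀ x ∈ B, ∀ k : ℕ, x ^ 2 ^ k = 1 → x ∈ T := fun x hx k hk => by
    have hxU := two_mem h hx hk
    have hxp : IsPGroup 2 ↥(Subgroup.zpowers (⟨x, hxU⟩ : U)) := by
      have hd : orderOf (⟨x, hxU⟩ : U) ∣ 2 ^ k :=
        orderOf_dvd_of_pow_eq_one (Subtype.ext (by simpa using hk))
      obtain ⟨j, -, hj⟩ := (Nat.dvd_prime_pow Nat.prime_two).mp hd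
      exact IsPGroup.of_card (n := j) (by rw [Nat.card_zpowers, hj])
    obtain ⟨S', hS'⟩ := hxp.exists_le_sylow
    haveI := Sylow.unique_of_normal S hSn
    have e : S' = S := Subsingleton.elim _ _
    exact ⟨⟨x, hxU⟩, e ▸ hS' (Subgroup.mem_zpowers _), rfl⟩
  have hTpow : ∀ x ∈ T, ∃ k : ℕ, x ^ 2 ^ k = 1 := fun x hx => by
    obtain ⟨k, hk⟩ := hTp ⟨x, hx⟩
    exact ⟨k, by simpa using congrArg Subtype.val hk⟩
  have hTconj : ∀ g ∈ B, ∀ x ∈ T, g * x * g⁻¹ ∈ T := fun g hg x hx => by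
    obtain ⟨k, hk⟩ := hTpow x hx
    exact hTmem _ (mul_mem (mul_mem hg (h.le (hTU hx))) (inv_mem hg)) k (by rw [conj_pow, hk]; simp)
  set R := T ⊓ MulAction.stabilizer G b with hR
  have hRB : R ≤ B := inf_le_left.trans (hTU.trans h.le)
  have hRp : IsPGroup 2 R := hTp.to_le inf_le_left
  have hRpow : ∀ r ∈ R, ∃ k : ℕ, r ^ 2 ^ k = 1 := fun r hr => hTpow r hr.1
  have hRb : ∀ r ∈ R, r • b = b := fun r hr => hr.2
  have ht₀R : t₀ ∈ R :=
    ⟨hTmem t₀ ht₀B 1 (by rw [pow_one, ← ht₀, pow_orderOf_eq_one]), smul_mk_eq_iff.mpr ht₀g⟩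
  -- the stabilisers in `T` of cosets off the base are conjugate
  have hTc : ∀ c d, c ≠ a → d ≠ a → Nat.card ↥(T ⊓ MulAction.stabilizer G c) =
      Nat.card ↥(T ⊓ MulAction.stabilizer G d) := fun c d hc hd => by
    obtain ⟨u, hu, hcd⟩ := isPretransitive_off h hc hd
    refine Nat.card_congr
      { toFun := fun x => ⟨u * x.1 * u⁻¹, hTconj u (h.le hu) _ x.2.1, by
          show (u * x.1 * u⁻¹) • d = d
          rw [mul_smul, mul_smul, inv_smul_eq_iff.mpr hcd.symm, x.2.2, hcd]⟩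
        invFun := fun x => ⟨u⁻¹ * x.1 * u, by
          simpa using hTconj u⁻¹ (h.le (inv_mem hu)) _ x.2.1, by
          show (u⁻¹ * x.1 * u) • c = c
          rw [mul_smul, mul_smul, hcd, x.2.2, inv_smul_eq_iff.mpr hcd.symm]⟩
        left_inv := fun x => Subtype.ext (by simp [mul_assoc])
        right_inv := fun x => Subtype.ext (by simp [mul_assoc]) }
  have hReq : ∀ c, c ≠ a → c ∈ fixSet B R → R = T ⊓ MulAction.stabilizer G c := fun c hc hfix =>
    Subgroup.eq_of_le_of_card_ge (le_inf inf_le_left fun r hr => hfix r hr) (hTc c b hc hba).le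
  set N := Subgroup.normalizer (R : Set G) with hN
  have hcomN : ∀ x, (∀ r ∈ R, Commute r x) → x ∈ N := fun x hx =>
    NoOdd.mem_normalizer_of_invariant fun r hr => by
      rwa [← (hx r hr).eq, mul_inv_cancel_right]
  have haR : a ∈ fixSet B R := fun r hr => smul_base_iff.mpr (hRB hr)
  obtain ⟨e₁, e₂, he₁, he₂, hne⟩ := htwo
  -- the orbit of the base coset under `N`
  have horb : MulAction.orbit N a = fixSet B R := by
    ext c
    constructor
    · rintro ⟨⟨g, hg⟩, rfl⟩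
      exact NoOdd.smul_mem_fixSet_of_mem_normalizer hg haR
    · intro hc
      rcases eq_or_ne c a with rfl | hca
      · exact MulAction.mem_orbit_self _
      · obtain ⟨w, hw, hwc⟩ := exists_member_at h c
        obtain ⟨x, -, hxa, hxR⟩ := exists_commute_conj h hRpow hRB hca hc he₁ hw hwc
        exact ⟨⟨x, hcomN x hxR⟩, hxa⟩
  set B₁ := B.subgroupOf N with hB₁
  set C := B₁.normalCore with hC
  set π := QuotientGroup.mk' C with hπ
  have hπs : Function.Surjective π := QuotientGroup.mk'_surjective _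
  have hCB : C ≤ B₁ := Subgroup.normalCore_le _
  have hmemB : ∀ x : N, π x ∈ B₁.map π ↔ (x : G) ∈ B := fun x =>
    ⟨fun hm => mem_of_mk_mem_map hCB hm, fun hx => Subgroup.mem_map_of_mem _ hx⟩
  set U₁ := U.subgroupOf N with hU₁
  have hU₁B : U₁ ≤ B₁ := fun x hx => h.le hx
  have hindex : B₁.index = (fixSet B R).ncard := by
    have hst : MulAction.stabilizer N a = B₁ := by
      ext x
      exact smul_base_iff
    rw [← hst, MulAction.index_stabilizer, horb]
  have hodd : Odd B₁.index := by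
    have hm := NoOdd.ncard_fixSet_modEq (H := B) hRp
    rw [hindex, Nat.odd_iff]
    rw [← Subgroup.index] at hm
    have h1 : B.index ≡ 1 [MOD 2] := Nat.odd_iff.mp h.odd_index
    exact hm.symm.trans h1
  have hne_top : B₁.map π ≠ ⊤ := by
    obtain ⟨x, hx⟩ : ∃ x : N, x • a = b := by
      have : b ∈ MulAction.orbit N a := horb ▸ hRb
      exact this
    intro htop
    refine hba (hx ▸ ?_)
    exact smul_base_iff.mpr ((hmemB x).mp (htop ▸ Subgroup.mem_top _))
  -- the setting in the quotient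
  have h' : NilSplit (B₁.map π) (U₁.map π) := by
    refine ⟨hne_top, ?_, ?_, Subgroup.map_mono hU₁B, ?_, ?_, ?_, ?_⟩
    · refine (Subgroup.eq_bot_iff_forall _).mpr fun q hq => ?_
      obtain ⟨x, rfl⟩ := hπs q
      refine (QuotientGroup.eq_one_iff x).mpr ?_
      show ∀ y : N, y * x * y⁻¹ ∈ B₁
      intro y
      have := hq (π y)
      rw [← map_inv, ← map_mul, ← map_mul] at this
      exact (hmemB _).mp this
    · rw [Subgroup.index_map_eq _ hπs (by rwa [hπ, QuotientGroup.ker_mk'])]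
      exact hodd
    · rintro _ ⟨y, hy, rfl⟩ _ ⟨x, hx, rfl⟩
      exact ⟨y * x * y⁻¹, h.conj_mem _ hy _ hx, by simp⟩
    · haveI : Group.IsNilpotent U₁ := Group.nilpotent_of_surjective (G := ↥(N.subgroupOf U))
        ({ toFun := fun x => ⟨⟨((x : U) : G), x.2⟩, (x : U).2⟩
           map_one' := rfl
           map_mul' := fun _ _ => rfl } : ↥(N.subgroupOf U) →* ↥U₁)
        (fun y => ⟨⟨⟨((y : N) : G), y.2⟩, (y : N).2⟩, rfl⟩)
      exact Group.nilpotent_of_surjective (π.subgroupMap U₁) (π.subgroupMap_surjective U₁)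
    · refine h.odd_rel.of_dvd_nat ?_
      haveI : (U.subgroupOf B).Normal := ⟨fun y hy x => by
        simpa [Subgroup.mem_subgroupOf] using h.conj_mem x x.2 y hy⟩
      rw [Subgroup.relIndex_map_map, hπ, QuotientGroup.ker_mk', sup_eq_left.mpr hCB]
      refine (Subgroup.relIndex_dvd_of_le_left B₁ le_sup_left).trans ?_
      rw [hU₁, hB₁]
      have e1 : (U.subgroupOf N).relIndex (B.subgroupOf N) = U.relIndex (B ⊓ N) := by
        rw [Subgroup.subgroupOf, Subgroup.relIndex_comap,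
          Subgroup.subgroupOf, Subgroup.map_comap_eq, Subgroup.range_subtype, inf_comm]
      rw [e1, ← Subgroup.relIndex_subgroupOf (L := B) inf_le_left]
      exact Subgroup.relIndex_dvd_index_of_normal _ _
    · intro q₁ q₂ hq₁ hq₂
      obtain ⟨g₁, rfl⟩ := hπs q₁
      obtain ⟨g₂, rfl⟩ := hπs q₂
      have hg₁ : (g₁ : G) ∉ B := fun hm => hq₁ ((hmemB g₁).mpr hm)
      have hg₂ : (g₂ : G) ∉ B := fun hm => hq₂ ((hmemB g₂).mpr hm)
      obtain ⟨u, hu, hub⟩ := h.trans g₁ g₂ hg₁ hg₂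
      have hc : u • ((g₁ : G) : G ⧸ B) = ((g₂ : G) : G ⧸ B) := by
        rw [MulAction.Quotient.smul_coe, smul_eq_mul, QuotientGroup.eq]
        simpa [mul_assoc] using inv_mem hub
      have hfix : ∀ g : N, ((g : G) : G ⧸ B) ∈ fixSet B R := fun g => by
        have := NoOdd.smul_mem_fixSet_of_mem_normalizer g.2 haR
        rwa [ha, MulAction.Quotient.smul_coe, smul_eq_mul, mul_one] at this
      have huN : u ∈ N := NoOdd.mem_normalizer_of_invariant fun r hr => by
        rw [hReq _ (fun e => hg₂ (mk_eq_base_iff.mp e)) (hfix g₂)]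
        refine ⟨hTconj u (h.le hu) r hr.1, ?_⟩
        show (u * r * u⁻¹) • ((g₂ : G) : G ⧸ B) = _
        rw [mul_smul, mul_smul, inv_smul_eq_iff.mpr hc.symm, hfix g₁ r hr, hc]
      refine ⟨π ⟨u, huN⟩, Subgroup.mem_map_of_mem _ hu, ?_⟩
      rw [← map_inv, ← map_mul, ← map_mul]
      exact Subgroup.mem_map_of_mem _ hub
  -- two central involutions in the quotient
  have hCfix : ∀ x : N, x ∈ C → x • b = b := fun x hx => by
    have hb' : b ∈ MulAction.orbit N a := horb ▸ hRb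
    obtain ⟨y, hy⟩ := hb'
    change y • a = b at hy
    have hm : y⁻¹ * x * y⁻¹⁻¹ ∈ C := (Subgroup.normalCore_normal B₁).conj_mem x hx y⁻¹
    have := (smul_base_iff (B := B) (x := ((y⁻¹ * x * y⁻¹⁻¹ : N) : G))).mpr (hCB hm)
    change (y⁻¹ * x * y⁻¹⁻¹) • a = a at this
    rwa [inv_inv, mul_smul, mul_smul, hy, inv_smul_eq_iff, hy] at this
  have hEN : ∀ e, IsE U e → e ∈ N := fun e he =>
    hcomN e fun r hr => he.2.2 r (hTU hr.1)
  have hEC : ∀ x : N, IsE U (x : G) → x ∉ C := fun x hx hxC => by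
    refine hg₀ (IsE.mem_of_conj_mem h hx ?_)
    exact smul_mk_eq_iff.mp (hCfix x hxC)
  have hIsE : ∀ (e : G) (he : IsE U e), IsE (U₁.map π) (π ⟨e, hEN e he⟩) := fun e he => by
    refine ⟨orderOf_two_iff.mpr ⟨?_, fun h1 => hEC _ he ((QuotientGroup.eq_one_iff _).mp h1)⟩,
      Subgroup.mem_map_of_mem _ he.2.1, ?_⟩
    · rw [← map_mul]
      exact (congrArg π (Subtype.ext (mul_self_eq_one he.1))).trans (map_one π)
    · rintro _ ⟨u, hu, rfl⟩
      show π u * π ⟨e, hEN e he⟩ = π ⟨e, hEN e he⟩ * π u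
      rw [← map_mul, ← map_mul]
      exact congrArg π (Subtype.ext (he.2.2 u hu).eq)
  have htwo' : HasTwo (U₁.map π) := by
    refine ⟨_, _, hIsE e₁ he₁, hIsE e₂ he₂, fun heq => ?_⟩
    rw [hπ, QuotientGroup.mk'_apply, QuotientGroup.mk'_apply, QuotientGroup.eq] at heq
    refine hEC _ ⟨?_, mul_mem (inv_mem he₁.2.1) he₂.2.1, fun u hu =>
      ((he₁.2.2 u hu).inv_right).mul_right (he₂.2.2 u hu)⟩ heq
    show orderOf (e₁⁻¹ * e₂) = 2
    have hc : Commute e₂ e₁⁻¹ := (he₁.2.2 e₂ he₂.2.1).inv_right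
    refine orderOf_two_iff.mpr ⟨?_, fun h1 => hne (inv_mul_eq_one.mp h1)⟩
    rw [hc.mul_mul_mul_comm e₁⁻¹ e₂, mul_self_eq_one he₂.1, mul_one, inv_eq_self he₁.1,
      mul_self_eq_one he₁.1]
  -- no bad involutions in the quotient
  have hno' : ∀ q p : ↥N ⧸ C, orderOf q = 2 → q ∈ B₁.map π → p⁻¹ * q * p ∈ B₁.map π →
      p ∈ B₁.map π := by
    intro q p hq hqB hpq
    obtain ⟨x, rfl⟩ := hπs q
    obtain ⟨g, rfl⟩ := hπs p
    by_contra hgB
    obtain ⟨i, m, hm, hn⟩ := Nat.exists_eq_two_pow_mul_odd (orderOf_pos x).ne'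
    have hxm : π (x ^ m) = π x := by
      obtain ⟨j, rfl⟩ := hm
      rw [map_pow, pow_succ, pow_mul, ← hq, pow_orderOf_eq_one, one_pow, one_mul]
    have h1 : ((x ^ m : N) : G) ∈ B := pow_mem ((hmemB x).mp hqB) m
    have h2 : ((g⁻¹ * x ^ m * g : N) : G) ∈ B := (hmemB _).mp (by
      rw [map_mul, map_mul, map_inv, hxm]; exact hpq)
    have hk : ((x ^ m : N) : G) ^ 2 ^ i = 1 := by
      rw [← SubmonoidClass.coe_pow, ← pow_mul, mul_comm, ← hn, pow_orderOf_eq_one, OneMemClass.coe_one]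
    have hc : ((g : G) : G ⧸ B) ≠ a := fun e => hgB ((hmemB g).mpr (mk_eq_base_iff.mp e))
    have hfixg : ((g : G) : G ⧸ B) ∈ fixSet B R := by
      have := NoOdd.smul_mem_fixSet_of_mem_normalizer g.2 haR
      rwa [ha, MulAction.Quotient.smul_coe, smul_eq_mul, mul_one] at this
    have hxR : ((x ^ m : N) : G) ∈ R := by
      rw [hReq _ hc hfixg]
      exact ⟨hTmem _ h1 i hk, smul_mk_eq_iff.mpr h2⟩
    have hxC : x ^ m ∈ C := fun y => hRB (by
      simpa using (Subgroup.mem_normalizer_iff.mp y.2 _).mp hxR)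
    exact ne_one_of_orderOf_two hq (hxm ▸ (QuotientGroup.eq_one_iff _).mpr hxC)
  have hp := (regular_of_no_bad h' htwo' hno').2.1
  -- conclusion
  refine isPGroup_two_of_odd_eq_one fun x hx hxo => ?_
  have key : ∀ y ∈ U, Odd (orderOf y) → y • b = b := by
    intro y hy hyo
    have hyN : y ∈ N := hcomN y fun r hr => by
      obtain ⟨k, hk⟩ := hRpow r hr
      refine commute_of_coprime h.nilp (hTU hr.1) hy (Nat.Coprime.coprime_dvd_left
        (orderOf_dvd_of_pow_eq_one hk) ((Nat.coprime_two_left.mpr hyo).pow_left k))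
    obtain ⟨k, hk⟩ := hp ⟨π ⟨y, hyN⟩, Subgroup.mem_map_of_mem _ hy⟩
    have hk' : π ((⟨y, hyN⟩ : N) ^ 2 ^ k) = 1 := by
      rw [map_pow]
      simpa using congrArg Subtype.val hk
    have hfix := hCfix _ ((QuotientGroup.eq_one_iff _).mp hk')
    change (y ^ 2 ^ k) • b = b at hfix
    have hst : Subgroup.zpowers (y ^ 2 ^ k) ≤ MulAction.stabilizer G b :=
      Subgroup.zpowers_le.mpr hfix
    refine hst ((mem_zpowers_pow_iff).mpr ?_)
    exact (Nat.coprime_two_left.mpr hyo).pow_left k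
  refine Subgroup.mem_bot.mp (h.core ▸ ?_)
  show ∀ g : G, g * x * g⁻¹ ∈ B
  intro g
  by_cases hg : g⁻¹ ∈ B
  · exact mul_mem (mul_mem (inv_mem_iff.mp hg) (h.le hx)) hg
  · obtain ⟨u, hu, hm⟩ := isPretransitive_off h hba
      (d := ((g⁻¹ : G) : G ⧸ B)) (fun e => hg (mk_eq_base_iff.mp e))
    have hfix : x • ((g⁻¹ : G) : G ⧸ B) = ((g⁻¹ : G) : G ⧸ B) := by
      have := key (u⁻¹ * x * u) (mul_mem (mul_mem (inv_mem hu) hx) hu) (by rwa [orderOf_conj_inv])
      rwa [mul_smul, mul_smul, hm, inv_smul_eq_iff, hm] at this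
    simpa using smul_mk_eq_iff.mp hfix

end CfsgLib.RankOneBN.Nil
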